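import Cfsg.Agent.SolvCentAlt.Code

/-!
# The alternating group of degree ten is ambivalent
-/

set_option autoImplicit false
set_option maxRecDepth 4000

namespace CfsgLib.SolvCentAlt.Amb

open Code

/-- Cycle types of even permutations with a representative and an even element inverting it. -/
def table : List (List ℕ × List (Fin 10 × Fin 10) × List (Fin 10 × Fin 10)) :=
  [([], [], []),
 ([2, 2], [(0, 1), (2, 3)], []),
 ([2, 2, 2, 2], [(0, 1), (2, 3), (4, 5), (6, 7)], []),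
 ([2, 2, 2, 4], [(0, 1), (2, 3), (4, 5), (6, 7), (7, 8), (8, 9)], [(6, 7), (8, 9)]),
 ([2, 2, 3], [(0, 1), (2, 3), (4, 5), (5, 6)], [(5, 6), (8, 9)]),
 ([2, 2, 3, 3], [(0, 1), (2, 3), (4, 5), (5, 6), (7, 8), (8, 9)], [(5, 6), (8, 9)]),
 ([2, 2, 5], [(0, 1), (2, 3), (4, 5), (5, 6), (6, 7), (7, 8)], [(5, 8), (6, 7)]),
 ([2, 3, 4], [(0, 1), (2, 3), (3, 4), (5, 6), (6, 7), (7, 8)], [(3, 4), (6, 8)]),
 ([2, 4], [(0, 1), (2, 3), (3, 4), (4, 5)], [(3, 5), (8, 9)]),
 ([2, 6], [(0, 1), (2, 3), (3, 4), (4, 5), (5, 6), (6, 7)], [(3, 7), (4, 6)]),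
 ([2, 8], [(0, 1), (2, 3), (3, 4), (4, 5), (5, 6), (6, 7), (7, 8), (8, 9)], [(2, 3), (4, 9), (5, 8), (6, 7)]),
 ([3], [(0, 1), (1, 2)], [(1, 2), (8, 9)]),
 ([3, 3], [(0, 1), (1, 2), (3, 4), (4, 5)], [(1, 2), (4, 5)]),
 ([3, 3, 3], [(0, 1), (1, 2), (3, 4), (4, 5), (6, 7), (7, 8)], [(1, 2), (3, 6), (4, 8), (5, 7)]),
 ([3, 5], [(0, 1), (1, 2), (3, 4), (4, 5), (5, 6), (6, 7)], [(1, 2), (4, 7), (5, 6), (8, 9)]),
 ([3, 7], [(0, 1), (1, 2), (3, 4), (4, 5), (5, 6), (6, 7), (7, 8), (8, 9)], [(1, 2), (4, 9), (5, 8), (6, 7)]),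
 ([4, 4], [(0, 1), (1, 2), (2, 3), (4, 5), (5, 6), (6, 7)], [(1, 3), (5, 7)]),
 ([4, 6], [(0, 1), (1, 2), (2, 3), (4, 5), (5, 6), (6, 7), (7, 8), (8, 9)], [(1, 3), (4, 5), (6, 9), (7, 8)]),
 ([5], [(0, 1), (1, 2), (2, 3), (3, 4)], [(1, 4), (2, 3)]),
 ([5, 5], [(0, 1), (1, 2), (2, 3), (3, 4), (5, 6), (6, 7), (7, 8), (8, 9)], [(1, 4), (2, 3), (6, 9), (7, 8)]),
 ([7], [(0, 1), (1, 2), (2, 3), (3, 4), (4, 5), (5, 6)], [(1, 6), (2, 5), (3, 4), (8, 9)]),
 ([9], [(0, 1), (1, 2), (2, 3), (3, 4), (4, 5), (5, 6), (6, 7), (7, 8)], [(1, 8), (2, 7), (3, 6), (4, 5)])]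

/-- Sorted lists of integers at least `lo` with bounded sum. -/
def lists : ℕ → ℕ → ℕ → List (List ℕ)
  | 0, _, _ => [[]]
  | fuel + 1, lo, b =>
    [] :: (List.range (b + 1)).flatMap fun a =>
      if lo ≤ a then (lists fuel a (b - a)).map (a :: ·) else []

theorem mem_lists : ∀ (fuel : ℕ) (l : List ℕ) (lo b : ℕ), l.length ≤ fuel → l.Pairwise (· ≤ ·) →
    (∀ a ∈ l, lo ≤ a) → l.sum ≤ b → l ∈ lists fuel lo b := by
  intro fuel
  induction fuel with
  | zero =>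
    intro l lo b hl _ _ _
    simp [lists, List.length_eq_zero_iff.1 (Nat.le_zero.1 hl)]
  | succ fuel ih =>
    intro l lo b hl hp hlo hs
    cases l with
    | nil => simp [lists]
    | cons a l =>
      rw [List.pairwise_cons] at hp
      rw [List.sum_cons] at hs
      rw [lists]
      refine List.mem_cons_of_mem _ (List.mem_flatMap.2 ⟨a, List.mem_range.2 (by omega), ?_⟩)
      rw [if_pos (hlo a List.mem_cons_self)]
      refine List.mem_map_of_mem (ih l a (b - a) ?_ hp.2 hp.1 (by omega))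
      simpa using hl

/-- The check of the table. -/
def good (x : List ℕ × List (Fin 10 × Fin 10) × List (Fin 10 × Fin 10)) : Bool :=
  decide (Equiv.Perm.cycleType (swaps x.2.1) = Multiset.ofList x.1) &&
    (x.2.2.length % 2 == 0) && x.2.2.all (fun y => decide (y.1 ≠ y.2)) &&
    comp 10 (comp 10 (swapsCode x.2.1) (swapsCode x.2.2)) (swapsCode x.2.1) == swapsCode x.2.2

theorem table_good : table.all good = true := by decide +kernel

theorem table_covers : ((lists 5 2 10).all fun l => (l.sum + l.length) % 2 == 1 ||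
    table.any fun x => x.1 == l) = true := by
  decide +kernel

theorem exists_conj_inv (g : alternatingGroup (Fin 10)) : ∃ h, h * g * h⁻¹ = g⁻¹ := by
  set G : Equiv.Perm (Fin 10) := (g : Equiv.Perm (Fin 10)) with hG
  set l := G.cycleType.sort (· ≤ ·) with hl
  have hcoe : (l : Multiset ℕ) = G.cycleType := Multiset.sort_eq _ _
  have h2 : ∀ a ∈ l, 2 ≤ a := fun a ha => by
    refine Equiv.Perm.two_le_of_mem_cycleType (σ := G) ?_
    rw [← hcoe]
    exact Multiset.mem_coe.2 ha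
  have hs : l.sum ≤ 10 := by
    rw [← Multiset.sum_coe, hcoe, Equiv.Perm.sum_cycleType]
    exact (Finset.card_le_univ _).trans (by simp)
  have hlen : l.length ≤ 5 := by
    have := List.card_nsmul_le_sum l 2 h2
    simp only [smul_eq_mul] at this
    omega
  have hmem := mem_lists 5 l 2 10 hlen (Multiset.pairwise_sort _ _) h2 hs
  have hpar : (l.sum + l.length) % 2 = 0 := by
    have h1 : Equiv.Perm.sign G = 1 := g.2
    rw [Equiv.Perm.sign_of_cycleType, ← hcoe, Multiset.sum_coe, Multiset.coe_card,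
      neg_one_pow_eq_one_iff_even (by decide)] at h1
    exact Nat.even_iff.1 h1
  have hcov := table_covers
  simp only [List.all_eq_true, Bool.or_eq_true, beq_iff_eq, List.any_eq_true] at hcov
  obtain h | ⟨x, hx, hxl⟩ := hcov l hmem
  · omega
  have hgood := List.all_eq_true.1 table_good x hx
  simp only [good, Bool.and_eq_true, decide_eq_true_eq, List.all_eq_true, beq_iff_eq] at hgood
  obtain ⟨⟨⟨hct, heven⟩, hne⟩, hcomp⟩ := hgood
  have hconj : IsConj (swaps x.2.1) G :=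
    Equiv.Perm.isConj_iff_cycleType_eq.2 (by rw [hct, hxl, hcoe])
  obtain ⟨c, hc⟩ := isConj_iff.1 hconj
  have e : swaps x.2.1 * swaps x.2.2 * swaps x.2.1 = swaps x.2.2 := by
    have e1 := ((rep_swaps (m := 10) (by norm_num) x.2.1).mul (by norm_num)
      (rep_swaps (m := 10) (by norm_num) x.2.2)).mul (by norm_num)
      (rep_swaps (m := 10) (by norm_num) x.2.1)
    have e2 := rep_swaps (m := 10) (by norm_num) x.2.2
    rw [← hcomp] at e2
    exact e1.unique e2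
  have hmemh : c * swaps x.2.2 * c⁻¹ ∈ alternatingGroup (Fin 10) := by
    have := Equiv.Perm.mem_alternatingGroup.1 (swaps_mem_alternatingGroup hne heven)
    rw [Equiv.Perm.mem_alternatingGroup]
    simp [this]
  refine ⟨⟨_, hmemh⟩, Subtype.ext ?_⟩
  show c * swaps x.2.2 * c⁻¹ * G * (c * swaps x.2.2 * c⁻¹)⁻¹ = G⁻¹
  rw [← hc]
  have e' : swaps x.2.2 * swaps x.2.1 * (swaps x.2.2)⁻¹ = (swaps x.2.1)⁻¹ := by
    rw [eq_inv_iff_mul_eq_one]
    calc _ = (swaps x.2.1)⁻¹ * (swaps x.2.1 * swaps x.2.2 * swaps x.2.1) *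
          (swaps x.2.2)⁻¹ * swaps x.2.1 := by group
      _ = _ := by rw [e]; group
  rw [show (c * swaps x.2.1 * c⁻¹)⁻¹ = c * (swaps x.2.1)⁻¹ * c⁻¹ by group, ← e']
  group

end CfsgLib.SolvCentAlt.Amb
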