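import Cfsg.Agent.SolvCentAlt.A5Ineq
import Cfsg.Agent.SolvCentAlt.FiveData

/-!
# Embeddings of the alternating group of degree five given by the images of generators
-/

set_option autoImplicit false

namespace CfsgLib.SolvCentAlt.Five

open Code
open AFive (L r cc yy uu vv mk)

/-- Words for the stabiliser of the last point in `cc, uu, vv, yy`. -/
def wordA : Fin 12 → List ℕ :=
  ![[], [0], [0, 0], [1], [1, 0], [1, 0, 0], [2], [2, 0], [2, 0, 0], [1, 2], [1, 2, 0], [1, 2, 0, 0]]

/-- Words for all elements. -/
def word (x : Fin 12 × Fin 5) : List ℕ := wordA x.1 ++ List.replicate (x.2 : ℕ) 3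

/-- The four generators. -/
def base : List (List (Fin 5 × Fin 5)) :=
  [[(0, 1), (1, 2)], [(0, 1), (2, 3)], [(0, 2), (1, 3)], [(0, 1), (1, 2), (2, 3), (3, 4)]]

theorem word_spec : ∀ x : Fin 12 × Fin 5,
    permWord (base.map swaps) (word x) = ((r x.1 * yy ^ (x.2 : ℕ) : L) : Equiv.Perm (Fin 5)) := by
  decide +kernel

theorem word_inj : Function.Injective fun x => evalWord 5 (base.map swapsCode) (word x) := by
  decide +kernel

theorem forall₂_map {m : ℕ} [NeZero m] (hm : m ≤ 16) (l : List (List (Fin m × Fin m))) :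
    List.Forall₂ Rep (l.map swapsCode) (l.map swaps) := by
  induction l with
  | nil => exact List.Forall₂.nil
  | cons a l ih => exact List.Forall₂.cons (rep_swaps hm a) ih

/-- Left multiplication by the generators agrees on both sides. -/
def checkHom (ims : Fin 4 → List (Fin 10 × Fin 10)) : Bool :=
  let c5 := base.map swapsCode
  let c10 := (List.ofFn ims).map swapsCode
  let ws := (List.finRange 12).flatMap fun k => (List.finRange 5).map fun i => word (k, i)
  (List.range 4).all fun s => ws.all fun w => ws.any fun w' =>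
    evalWord 5 c5 (s :: w) == evalWord 5 c5 w' && evalWord 10 c10 (s :: w) == evalWord 10 c10 w'

/-- Every list of transpositions is even. -/
def checkEven {m : ℕ} (l : List (List (Fin m × Fin m))) : Bool :=
  l.all fun a => (a.length % 2 == 0) && a.all fun x => decide (x.1 ≠ x.2)

theorem mem_alt_of_checkEven {m : ℕ} {l : List (List (Fin m × Fin m))} (h : checkEven l = true) :
    ∀ g ∈ l.map swaps, g ∈ alternatingGroup (Fin m) := by
  intro g hg
  obtain ⟨a, ha, rfl⟩ := List.mem_map.1 hg
  simp only [checkEven, List.all_eq_true, Bool.and_eq_true, beq_iff_eq, decide_eq_true_eq] at h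
  exact swaps_mem_alternatingGroup (h a ha).2 (h a ha).1

theorem exists_hom {ims : Fin 4 → List (Fin 10 × Fin 10)} (h : checkHom ims = true)
    (he : checkEven (List.ofFn ims) = true)
    (hne : swapsCode (ims 0) ≠ one 10) :
    ∃ f : L →* alternatingGroup (Fin 10), Function.Injective f ∧
      (∀ k, (f (r k) : Equiv.Perm (Fin 10)) = permWord ((List.ofFn ims).map swaps) (wordA k)) ∧
      (f cc : Equiv.Perm (Fin 10)) = swaps (ims 0) ∧
      (f uu : Equiv.Perm (Fin 10)) = swaps (ims 1) ∧
      (f vv : Equiv.Perm (Fin 10)) = swaps (ims 2) := by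
  set ps := (List.ofFn ims).map swaps with hps
  set pb := base.map (swaps (m := 5)) with hpb
  have hpbA : ∀ g ∈ pb, g ∈ alternatingGroup (Fin 5) :=
    mem_alt_of_checkEven (by decide +kernel)
  have hpsA : ∀ g ∈ ps, g ∈ alternatingGroup (Fin 10) := mem_alt_of_checkEven he
  have hex : ∀ g : L, ∃ x : Fin 12 × Fin 5, permWord pb (word x) = g := fun g => by
    obtain ⟨k, ⟨i, rfl⟩, -⟩ := AFive.coset_Y g
    exact ⟨(k, i), word_spec (k, i)⟩
  choose x hx using hex
  let f₀ : L → Equiv.Perm (Fin 10) := fun g => permWord ps (word (x g))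
  have hr5 := forall₂_map (by norm_num : 5 ≤ 16) base
  have hr10 := forall₂_map (by norm_num : 10 ≤ 16) (List.ofFn ims)
  have hval : ∀ (y : Fin 12 × Fin 5) (g : L), permWord pb (word y) = g →
      f₀ g = permWord ps (word y) := by
    intro y g hg
    have hxy : x g = y := by
      apply word_inj
      have h1 := rep_evalWord (m := 5) (by norm_num) hr5 (word (x g))
      have h2 := rep_evalWord (m := 5) (by norm_num) hr5 (word y)
      rw [← hpb, hx g, ← hg] at h1
      have key : ∀ c : ℕ, ∀ w : List ℕ, c = evalWord 5 (base.map swapsCode) w →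
          encode 5 (fun i => app c i) = c := by
        rintro c w rfl
        cases w with
        | nil => decide +kernel
        | cons j w =>
          conv_rhs => rw [evalWord, List.foldr_cons, comp]
          refine encode_congr 5 fun i hi => ?_
          rw [evalWord, List.foldr_cons, comp, app_encode 5 _ i hi, app, app, Nat.mod_mod]
      refine ((key _ _ rfl).symm.trans ?_).trans (key _ _ rfl)
      refine encode_congr 5 fun i hi => ?_
      exact (h1 ⟨i, hi⟩).trans (h2 ⟨i, hi⟩).symm
    show permWord ps (word (x g)) = _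
    rw [hxy]
  have hgen : ∀ s < 4, ∀ (g s' : L), (s' : Equiv.Perm (Fin 5)) = pb.getD s 1 →
      f₀ (s' * g) = ps.getD s 1 * f₀ g := by
    intro s hs g s' hs'
    simp only [checkHom, List.all_eq_true, List.mem_range, List.any_eq_true, List.mem_flatMap,
      List.mem_map, List.mem_finRange, true_and, Bool.and_eq_true, beq_iff_eq] at h
    obtain ⟨w', ⟨k', i', rfl⟩, h5, h10⟩ :=
      h s hs (word (x g)) ⟨(x g).1, (x g).2, rfl⟩
    have e5 : permWord pb (s :: word (x g)) = permWord pb (word (k', i')) := by
      refine Rep.unique ?_ (rep_evalWord (by norm_num) hr5 _)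
      rw [← h5]
      exact rep_evalWord (by norm_num) hr5 _
    have e10 : permWord ps (s :: word (x g)) = permWord ps (word (k', i')) := by
      refine Rep.unique ?_ (rep_evalWord (by norm_num) hr10 _)
      rw [← h10]
      exact rep_evalWord (by norm_num) hr10 _
    rw [hval (k', i') (s' * g) (by
      rw [← e5, Subgroup.coe_mul, hs', ← hx g]; rfl), ← e10]
    rfl
  have hone : f₀ 1 = 1 := hval (0, 0) 1 (by rw [word_spec]; simp [AFive.r_zero])
  have hword : ∀ (w : List ℕ), (∀ s ∈ w, s < 4) → ∀ (a g : L),
      (a : Equiv.Perm (Fin 5)) = permWord pb w → f₀ (a * g) = permWord ps w * f₀ g := by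
    intro w
    induction w with
    | nil =>
      intro _ a g ha
      rw [show a = 1 from Subtype.ext ha, one_mul]
      exact (one_mul _).symm
    | cons s w ih =>
      intro hw a g ha
      let s' : L := ⟨pb.getD s 1, by
        rw [List.getD_eq_getElem?_getD]
        rcases hi : pb[s]? with - | q
        · exact Subgroup.one_mem _
        · exact hpbA q (List.mem_of_getElem? hi)⟩
      let b : L := ⟨permWord pb w, permWord_mem hpbA w⟩
      rw [show a = s' * b from Subtype.ext ha, mul_assoc,
        hgen s (hw s List.mem_cons_self) _ s' rfl,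
        ih (fun t ht => hw t (List.mem_cons_of_mem _ ht)) b g rfl, ← mul_assoc]
      rfl
  have hlt : ∀ y : Fin 12 × Fin 5, ∀ s ∈ word y, s < 4 := by decide +kernel
  have hmul : ∀ a g, f₀ (a * g) = f₀ a * f₀ g := fun a g => hword _ (hlt (x a)) a g (hx a).symm
  let f : L →* alternatingGroup (Fin 10) :=
    { toFun := fun g => ⟨f₀ g, permWord_mem hpsA _⟩
      map_one' := Subtype.ext hone
      map_mul' := fun a g => Subtype.ext (hmul a g) }
  have hfw : ∀ (a : L) (w : List ℕ), (∀ s ∈ w, s < 4) → (a : Equiv.Perm (Fin 5)) = permWord pb w →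
      (f a : Equiv.Perm (Fin 10)) = permWord ps w := fun a w hw ha => by
    show f₀ a = _
    have := hword w hw a 1 ha
    rwa [mul_one, hone, mul_one] at this
  have hwA : ∀ k, ∀ s ∈ wordA k, s < 4 := by decide +kernel
  have hrA : ∀ k, ((r k : L) : Equiv.Perm (Fin 5)) = permWord pb (wordA k) := by decide +kernel
  have hsingle : ∀ (a : L) (i : Fin 4), (a : Equiv.Perm (Fin 5)) = permWord pb [(i : ℕ)] →
      (f a : Equiv.Perm (Fin 10)) = swaps (ims i) := fun a i ha => by
    rw [hfw a [(i : ℕ)] (by simp) ha, hps]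
    simp [permWord]
    fin_cases i <;> rfl
  refine ⟨f, ?_, fun k => hfw _ _ (hwA k) (hrA k),
    hsingle cc 0 (by decide +kernel), hsingle uu 1 (by decide +kernel),
    hsingle vv 2 (by decide +kernel)⟩
  rw [← MonoidHom.ker_eq_bot_iff]
  rcases (alternatingGroup.isSimpleGroup_five).eq_bot_or_eq_top_of_normal f.ker
    (MonoidHom.normal_ker f) with hk | hk
  · exact hk
  · exfalso
    apply hne
    have h1 : f cc = 1 := MonoidHom.mem_ker.1 (hk ▸ Subgroup.mem_top cc)
    have h2 := hsingle cc 0 (by decide +kernel)
    rw [h1, Subgroup.coe_one] at h2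
    rw [swapsCode, ← h2]
    exact encode_congr 10 fun i hi => by simp [Nat.mod_eq_of_lt hi]

end CfsgLib.SolvCentAlt.Five
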