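import Cfsg.Agent.SolvCentAlt.TraceLift
import Cfsg.Agent.SolvCentAlt.FiveHom

/-!
# Modules of the alternating group of degree ten in characteristic five

A module in which no subgroup `A₅` fixes a nonzero vector or functional is zero.
-/

set_option autoImplicit false
set_option maxRecDepth 4000

namespace CfsgLib.SolvCentAlt.Five

open Code Matrix
open AFive (L r cc yy uu vv mk fx)

variable {n : ℕ}

abbrev A10 := alternatingGroup (Fin 10)

/-- Neither fixed vectors nor fixed functionals for any embedded alternating group of degree five. -/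
def NoFixed (ρ : A10 →* GL (Fin n) (ZMod 5)) : Prop :=
  ∀ f : L →* A10, Function.Injective f →
    (∀ v : Fin n → ZMod 5, (∀ g, (ρ (f g) : Matrix (Fin n) (Fin n) (ZMod 5)) *ᵥ v = v) → v = 0) ∧
    ∀ l : Module.Dual (ZMod 5) (Fin n → ZMod 5),
      (∀ g v, l ((ρ (f g) : Matrix (Fin n) (Fin n) (ZMod 5)) *ᵥ v) = l v) → l = 0

/-- Conjugation by a transposition. -/
def twist : A10 →* A10 :=
  ((MulAut.conjNormal (H := alternatingGroup (Fin 10))
    (Equiv.swap (0 : Fin 10) 1) : MulAut A10) : A10 ≃* A10).toMonoidHom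

theorem coe_twist (g : A10) : (twist g : Equiv.Perm (Fin 10)) =
    Equiv.swap 0 1 * (g : Equiv.Perm (Fin 10)) * (Equiv.swap (0 : Fin 10) 1)⁻¹ :=
  MulAut.conjNormal_apply _ _

theorem twist_injective : Function.Injective twist := fun a b h => by
  have := congrArg Subtype.val h
  rw [coe_twist, coe_twist] at this
  exact Subtype.ext (mul_left_cancel (mul_right_cancel this))

theorem NoFixed.twist {ρ : A10 →* GL (Fin n) (ZMod 5)} (h : NoFixed ρ) :
    NoFixed (ρ.comp twist) := fun f hf => h (Five.twist.comp f) (twist_injective.comp hf)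

/-- The representation on column vectors. -/
def colRep {G : Type*} [Group G] (ρ : G →* GL (Fin n) (ZMod 5)) :
    Representation (ZMod 5) G (Fin n → ZMod 5) where
  toFun g := Matrix.toLin' (ρ g : Matrix (Fin n) (Fin n) (ZMod 5))
  map_one' := by rw [map_one, Units.val_one, Matrix.toLin'_one]; rfl
  map_mul' a b := by rw [map_mul, Units.val_mul, Matrix.toLin'_mul]; rfl

theorem colRep_apply {G : Type*} [Group G] (ρ : G →* GL (Fin n) (ZMod 5)) (g : G)
    (v : Fin n → ZMod 5) : colRep ρ g v = (ρ g : Matrix (Fin n) (Fin n) (ZMod 5)) *ᵥ v := rfl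

/-- The fixed vectors of a set of even permutations. -/
def fixSet (ρ : A10 →* GL (Fin n) (ZMod 5)) (s : Set (Equiv.Perm (Fin 10))) :
    Submodule (ZMod 5) (Fin n → ZMod 5) :=
  ⨅ g : A10, ⨅ _ : (g : Equiv.Perm (Fin 10)) ∈ s,
    LinearMap.ker (Matrix.toLin' (ρ g : Matrix (Fin n) (Fin n) (ZMod 5)) - 1)

theorem mem_fixSet {ρ : A10 →* GL (Fin n) (ZMod 5)} {s : Set (Equiv.Perm (Fin 10))}
    {v : Fin n → ZMod 5} :
    v ∈ fixSet ρ s ↔ ∀ g : A10, (g : Equiv.Perm (Fin 10)) ∈ s →
      (ρ g : Matrix (Fin n) (Fin n) (ZMod 5)) *ᵥ v = v := by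
  simp [fixSet, sub_eq_zero]

/-- The fixed vectors are those fixed by the generators. -/
theorem mem_fixSet_closure {ρ : A10 →* GL (Fin n) (ZMod 5)} {s : Set (Equiv.Perm (Fin 10))}
    (hs : ∀ g ∈ s, g ∈ alternatingGroup (Fin 10)) {v : Fin n → ZMod 5} :
    v ∈ fixSet ρ (Subgroup.closure s : Set (Equiv.Perm (Fin 10))) ↔
      ∀ g : A10, (g : Equiv.Perm (Fin 10)) ∈ s →
        (ρ g : Matrix (Fin n) (Fin n) (ZMod 5)) *ᵥ v = v := by
  rw [mem_fixSet]
  refine ⟨fun h g hg => h g (Subgroup.subset_closure hg), fun h g hg => ?_⟩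
  let St : Subgroup A10 :=
    { carrier := {g | (ρ g : Matrix (Fin n) (Fin n) (ZMod 5)) *ᵥ v = v}
      mul_mem' := fun {a b} ha hb => by
        simp only [Set.mem_ofPred_eq] at ha hb ⊢
        rw [map_mul, Units.val_mul, ← Matrix.mulVec_mulVec, hb, ha]
      one_mem' := by simp
      inv_mem' := fun {a} ha => by
        simp only [Set.mem_ofPred_eq] at ha ⊢
        nth_rw 1 [← ha]
        rw [Matrix.mulVec_mulVec, ← Units.val_mul, ← map_mul, inv_mul_cancel, map_one,
          Units.val_one, Matrix.one_mulVec] }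
  have hle : Subgroup.closure s ≤ St.map (alternatingGroup (Fin 10)).subtype :=
    (Subgroup.closure_le _).2 fun x hx => ⟨⟨x, hs x hx⟩, h ⟨x, hs x hx⟩ hx, rfl⟩
  obtain ⟨g', hg', he⟩ := hle hg
  rw [← show g' = g from Subtype.ext he]
  exact hg'

/-- The dimension of the fixed space of a generated group and of its twist. -/
noncomputable def dim2 (ρ : A10 →* GL (Fin n) (ZMod 5))
    (gens : List (List (Fin 10 × Fin 10))) : ℕ :=
  Module.finrank (ZMod 5)
      (fixSet ρ (Subgroup.closure {g | g ∈ gens.map swaps} : Set (Equiv.Perm (Fin 10)))) +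
    Module.finrank (ZMod 5)
      (fixSet (ρ.comp twist)
        (Subgroup.closure {g | g ∈ gens.map swaps} : Set (Equiv.Perm (Fin 10))))

theorem dim2_le (ρ : A10 →* GL (Fin n) (ZMod 5)) (gens : List (List (Fin 10 × Fin 10))) :
    dim2 ρ gens ≤ 2 * n := by
  have h := fun (W : Submodule (ZMod 5) (Fin n → ZMod 5)) => W.finrank_le
  simp only [Module.finrank_fin_fun] at h
  rw [dim2, two_mul]
  exact add_le_add (h _) (h _)

/-- The generators of `gens'` lie in the group of the tree. -/
def checkSub (gens gens' : List (List (Fin 10 × Fin 10))) (t : PTree (ℕ × ℕ × ℕ)) : Bool :=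
  checkGroup 10 (gens.map swapsCode) t && checkEven gens && checkEven gens' &&
    gens'.all fun g => t.has (swapsCode g)

theorem dim2_mono (ρ : A10 →* GL (Fin n) (ZMod 5)) {gens gens' : List (List (Fin 10 × Fin 10))}
    {t : PTree (ℕ × ℕ × ℕ)} (h : checkSub gens gens' t = true) :
    dim2 ρ gens ≤ dim2 ρ gens' := by
  simp only [checkSub, Bool.and_eq_true, List.all_eq_true] at h
  obtain ⟨⟨⟨h1, he⟩, he'⟩, hsub⟩ := h
  have hspec := checkGroup_spec (by norm_num) (forall₂_map (by norm_num) gens) h1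
  have hle : (Subgroup.closure {g | g ∈ gens'.map swaps} : Set (Equiv.Perm (Fin 10))) ⊆
      Subgroup.closure {g | g ∈ gens.map swaps} := SetLike.coe_subset_coe.2 <|
    (Subgroup.closure_le _).2 fun g hg => by
      obtain ⟨a, ha, rfl⟩ := List.mem_map.1 hg
      exact hspec.2.2.2.1 _ _ (rep_swaps (by norm_num) a) (hsub a ha)
  have key : ∀ σ : A10 →* GL (Fin n) (ZMod 5),
      fixSet σ (Subgroup.closure {g | g ∈ gens.map swaps} : Set (Equiv.Perm (Fin 10))) ≤
        fixSet σ (Subgroup.closure {g | g ∈ gens'.map swaps} : Set (Equiv.Perm (Fin 10))) :=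
    fun σ v hv => mem_fixSet.2 fun g hg => mem_fixSet.1 hv g (hle hg)
  exact add_le_add (Submodule.finrank_mono (key _)) (Submodule.finrank_mono (key _))

/-- Vectors fixed by the generators are fixed by the stabiliser of the last point. -/
theorem fixed_r {V : Type*} [AddCommGroup V] [Module (ZMod 5) V]
    {σ : Representation (ZMod 5) L V} {v : V} (hc : σ cc v = v) (hu : σ uu v = v)
    (hv : σ vv v = v) (k : Fin 12) : σ (r k) v = v := by
  fin_cases k <;>
    simp only [r, Fin.reduceFinMk, Matrix.cons_val, AFive.act_mul, AFive.act_one, hc, hu, hv]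

/-- The inequality coming from an embedded alternating group of degree five. -/
theorem dim2_five {ρ : A10 →* GL (Fin n) (ZMod 5)} (hρ : NoFixed ρ)
    {ims : Fin 4 → List (Fin 10 × Fin 10)} (h : checkHom ims = true)
    (he : checkEven (List.ofFn ims) = true) (hne : swapsCode (ims 0) ≠ one 10)
    {gA gC : List (List (Fin 10 × Fin 10))}
    (hA : gA.map swapsCode = [swapsCode (ims 0), swapsCode (ims 1), swapsCode (ims 2)])
    (hC : gC.map swapsCode = [swapsCode (ims 0)]) :
    2 * n + 10 * dim2 ρ gA ≤ 5 * dim2 ρ gC := by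
  obtain ⟨f, hf, hfr, hfc, hfu, hfv⟩ := exists_hom h he hne
  have hmap : ∀ {g : List (List (Fin 10 × Fin 10))} {l : List (List (Fin 10 × Fin 10))},
      g.map swapsCode = l.map swapsCode → g.map (swaps (m := 10)) = l.map swaps := by
    intro g
    induction g with
    | nil => intro l hl; simp_all
    | cons a g ih =>
      intro l hl
      cases l with
      | nil => simp at hl
      | cons b l =>
        simp only [List.map_cons, List.cons.injEq] at hl ⊢
        refine ⟨?_, ih hl.2⟩
        have h' : Rep (swapsCode b) (swaps b) := rep_swaps (by norm_num) b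
        rw [← hl.1] at h'
        exact Rep.unique (rep_swaps (by norm_num) a) h'
  have hA' : gA.map swaps = [swaps (ims 0), swaps (ims 1), swaps (ims 2)] :=
    hmap (l := [ims 0, ims 1, ims 2]) hA
  have hC' : gC.map swaps = [swaps (ims 0)] := hmap (l := [ims 0]) hC
  have one_side : ∀ σ : A10 →* GL (Fin n) (ZMod 5), NoFixed σ →
      n + 10 * Module.finrank (ZMod 5)
          (fixSet σ (Subgroup.closure {g | g ∈ gA.map swaps} : Set (Equiv.Perm (Fin 10)))) ≤
        5 * Module.finrank (ZMod 5)
          (fixSet σ (Subgroup.closure {g | g ∈ gC.map swaps} : Set (Equiv.Perm (Fin 10)))) := by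
    intro σ hσ
    obtain ⟨hv, hl⟩ := hσ f hf
    have hmain := AFive.main (σ := colRep (σ.comp f)) hv hl
    rw [Module.finrank_fin_fun] at hmain
    have hu : ∀ g ∈ [f cc, f uu, f vv], ∃ k, g = f (r k) := by
      intro g hg
      simp only [List.mem_cons, List.not_mem_nil, or_false] at hg
      rcases hg with rfl | rfl | rfl
      · exact ⟨1, rfl⟩
      · exact ⟨3, rfl⟩
      · exact ⟨6, rfl⟩
    have hevA : ∀ g ∈ gA.map swaps, g ∈ alternatingGroup (Fin 10) := by
      rw [hA', ← hfc, ← hfu, ← hfv]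
      intro g hg
      simp only [List.mem_cons, List.not_mem_nil, or_false] at hg
      rcases hg with rfl | rfl | rfl <;> exact SetLike.coe_mem _
    have hevC : ∀ g ∈ gC.map swaps, g ∈ alternatingGroup (Fin 10) := by
      rw [hC', ← hfc]
      intro g hg
      rw [List.mem_singleton] at hg
      exact hg ▸ SetLike.coe_mem _
    have e1 : fx (colRep (σ.comp f)) (Set.range r) =
        fixSet σ (Subgroup.closure {g | g ∈ gA.map swaps} : Set (Equiv.Perm (Fin 10))) := by
      ext v
      rw [mem_fixSet_closure (s := {g | g ∈ gA.map swaps}) hevA, AFive.mem_fx]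
      simp only [Set.mem_ofPred_eq, hA', ← hfc, ← hfu, ← hfv]
      constructor
      · intro hv' g hg
        obtain ⟨k, rfl⟩ := hu g (by
          simpa [List.mem_cons, SetLike.coe_eq_coe] using hg)
        exact hv' _ ⟨k, rfl⟩
      · rintro hv' _ ⟨k, rfl⟩
        exact fixed_r (σ := colRep (σ.comp f)) (hv' (f cc) (by simp)) (hv' (f uu) (by simp))
          (hv' (f vv) (by simp)) k
    have e2 : fx (colRep (σ.comp f)) {cc} =
        fixSet σ (Subgroup.closure {g | g ∈ gC.map swaps} : Set (Equiv.Perm (Fin 10))) := by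
      ext v
      rw [mem_fixSet_closure (s := {g | g ∈ gC.map swaps}) hevC, AFive.mem_fx]
      simp only [Set.mem_ofPred_eq, hC', ← hfc, List.mem_singleton, Set.mem_singleton_iff,
        SetLike.coe_eq_coe, forall_eq, colRep_apply, MonoidHom.comp_apply]
    rw [e1, e2] at hmain
    exact hmain
  have h1 := one_side ρ hρ
  have h2 := one_side _ hρ.twist
  simp only [dim2]
  omega

/-- The lifted trace on even permutations. -/
noncomputable def bb (ρ : A10 →* GL (Fin n) (ZMod 5)) (N : ℕ) (g : Equiv.Perm (Fin 10)) :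
    ZMod (5 ^ (N + 1)) :=
  open scoped Classical in
  if h : g ∈ alternatingGroup (Fin 10) then beta (ρ ⟨g, h⟩) else 0

/-- Its symmetrisation. -/
noncomputable def ff (ρ : A10 →* GL (Fin n) (ZMod 5)) (N : ℕ) (g : Equiv.Perm (Fin 10)) :
    ZMod (5 ^ (N + 1)) :=
  bb ρ N g + bb ρ N (Equiv.swap 0 1 * g * (Equiv.swap (0 : Fin 10) 1)⁻¹)

theorem bb_conj (ρ : A10 →* GL (Fin n) (ZMod 5)) (N : ℕ) {x : Equiv.Perm (Fin 10)}
    (hx : x ∈ alternatingGroup (Fin 10)) (g : Equiv.Perm (Fin 10)) :
    bb ρ N (x * g * x⁻¹) = bb ρ N g := by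
  by_cases hg : g ∈ alternatingGroup (Fin 10)
  · rw [bb, bb, dif_pos hg, dif_pos (mul_mem (mul_mem hx hg) (inv_mem hx))]
    rw [show (⟨x * g * x⁻¹, _⟩ : A10) = ⟨x, hx⟩ * ⟨g, hg⟩ * ⟨x, hx⟩⁻¹ from Subtype.ext rfl,
      map_mul, map_mul, map_inv, beta_conj]
  · rw [bb, bb, dif_neg hg, dif_neg]
    intro h
    exact hg (by simpa [mul_assoc] using mul_mem (mul_mem (inv_mem hx) h) hx)

theorem ff_conj (ρ : A10 →* GL (Fin n) (ZMod 5)) (N : ℕ) (x g : Equiv.Perm (Fin 10)) :
    ff ρ N (x * g * x⁻¹) = ff ρ N g := by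
  set τ := Equiv.swap (0 : Fin 10) 1 with hτ
  have hττ : τ⁻¹ = τ := Equiv.swap_inv _ _
  have hsτ : Equiv.Perm.sign τ = -1 := Equiv.Perm.sign_swap (by decide)
  rcases Int.units_eq_one_or (Equiv.Perm.sign x) with hs | hs
  · have hx : x ∈ alternatingGroup (Fin 10) := hs
    have hx' : τ * x * τ⁻¹ ∈ alternatingGroup (Fin 10) := by
      rw [Equiv.Perm.mem_alternatingGroup]
      simp [hs, hsτ]
    rw [ff, ff, bb_conj ρ N hx g, ← hτ,
      show τ * (x * g * x⁻¹) * τ⁻¹ = (τ * x * τ⁻¹) * (τ * g * τ⁻¹) * (τ * x * τ⁻¹)⁻¹ by group,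
      bb_conj ρ N hx']
  · have h1 : x * τ⁻¹ ∈ alternatingGroup (Fin 10) := by
      rw [Equiv.Perm.mem_alternatingGroup]
      simp [hs, hsτ]
    have h2 : τ * x ∈ alternatingGroup (Fin 10) := by
      rw [Equiv.Perm.mem_alternatingGroup]
      simp [hs, hsτ]
    rw [ff, ff, ← hτ,
      show x * g * x⁻¹ = (x * τ⁻¹) * (τ * g * τ⁻¹) * (x * τ⁻¹)⁻¹ by group, bb_conj ρ N h1,
      show τ * (x * τ⁻¹ * (τ * g * τ⁻¹) * (x * τ⁻¹)⁻¹) * τ⁻¹ = (τ * x) * g * (τ * x)⁻¹ by group,
      bb_conj ρ N h2]
    exact add_comm _ _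

/-- The class index of a node. -/
def nodeType (x : ℕ × List ℕ × (ℕ × ℕ × ℕ)) : Fin 18 := Fin.ofNat 18 x.2.2.1

/-- The class distribution. -/
def counts (t : PTree (ℕ × ℕ × ℕ)) (j : Fin 18) : ℕ :=
  t.toList.countP fun x => nodeType x == j

/-- The verification of a group with its class data. -/
def checkClasses (gens : List (List (Fin 10 × Fin 10))) (t : PTree (ℕ × ℕ × ℕ))
    (hist : List ℕ) : Bool :=
  checkGroup 10 (gens.map swapsCode) t && checkEven gens &&
    (t.toList.all fun x => isPerm 10 x.2.2.2.1 x.2.2.2.2 &&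
      comp 10 x.2.2.2.1 x.1 == comp 10 (swapsCode (repSwaps (nodeType x))) x.2.2.2.1) &&
    (List.finRange 18).all (fun j => counts t j == hist.getD j 0) && t.toList.length % 5 != 0

theorem card_mul_dim2 {gens : List (List (Fin 10 × Fin 10))} {t : PTree (ℕ × ℕ × ℕ)}
    {hist : List ℕ} (h : checkClasses gens t hist = true) (ρ : A10 →* GL (Fin n) (ZMod 5))
    (N : ℕ) :
    ((t.toList.length * dim2 ρ gens : ℕ) : ZMod (5 ^ (N + 1))) =
      ∑ j : Fin 18, (hist.getD j 0 : ZMod (5 ^ (N + 1))) * ff ρ N (swaps (repSwaps j)) := by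
  simp only [checkClasses, Bool.and_eq_true, List.all_eq_true, beq_iff_eq, bne_iff_ne] at h
  obtain ⟨⟨⟨⟨h1, he⟩, hconj⟩, hcount⟩, hcop⟩ := h
  have hrep := forall₂_map (by norm_num : 10 ≤ 16) gens
  obtain ⟨hr, -, -, -, hcard⟩ := checkGroup_spec (by norm_num) hrep h1
  set S := Subgroup.closure {g | g ∈ gens.map (swaps (m := 10))} with hS
  have hSA : S ≤ alternatingGroup (Fin 10) :=
    (Subgroup.closure_le _).2 fun g hg => mem_alt_of_checkEven he g hg
  have : Fintype S := Fintype.ofFinite _
  have hcop' : (Nat.card S).Coprime 5 := by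
    rw [hcard, Nat.coprime_comm, (by norm_num : Nat.Prime 5).coprime_iff_not_dvd]
    omega
  have key : ∀ σ : A10 →* GL (Fin n) (ZMod 5),
      ((Nat.card S * Module.finrank (ZMod 5) (fixSet σ (S : Set (Equiv.Perm (Fin 10)))) : ℕ) :
        ZMod (5 ^ (N + 1))) = ∑ s : S, bb σ N s := by
    intro σ
    have e : fixSet σ (S : Set (Equiv.Perm (Fin 10))) =
        fixedSub (σ.comp (Subgroup.inclusion hSA)) := by
      ext v
      rw [mem_fixSet, mem_fixedSub]
      exact ⟨fun hv s => hv (Subgroup.inclusion hSA s) s.2,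
        fun hv g hg => hv ⟨(g : Equiv.Perm (Fin 10)), hg⟩⟩
    rw [e, card_mul_finrank_fixedSub _ hcop']
    refine Finset.sum_congr rfl fun s _ => ?_
    rw [bb, dif_pos (hSA s.2)]
    rfl
  have htw : ∀ g : Equiv.Perm (Fin 10), g ∈ alternatingGroup (Fin 10) →
      bb (ρ.comp twist) N g = bb ρ N (Equiv.swap 0 1 * g * (Equiv.swap (0 : Fin 10) 1)⁻¹) := by
    intro g hg
    have hmem : Equiv.swap 0 1 * g * (Equiv.swap (0 : Fin 10) 1)⁻¹ ∈
        alternatingGroup (Fin 10) := coe_twist ⟨g, hg⟩ ▸ SetLike.coe_mem _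
    rw [bb, bb, dif_pos hg, dif_pos hmem]
    exact congrArg (fun a => beta (ρ a)) (Subtype.ext (coe_twist ⟨g, hg⟩))
  rw [dim2, mul_add, ← hcard, Nat.cast_add, key ρ, key (ρ.comp twist), ← Finset.sum_add_distrib,
    Finset.sum_congr rfl fun (s : S) _ =>
      show bb ρ N s + bb (ρ.comp twist) N s = ff ρ N s by rw [htw _ (hSA s.2)]; rfl,
    sum_closure (by norm_num) hrep h1 (ff ρ N),
    List.map_congr_left (g := fun x => ff ρ N (swaps (repSwaps (nodeType x))))]
  · rw [Finset.sum_congr rfl fun (j : Fin 18) (_ : j ∈ (Finset.univ : Finset (Fin 18))) =>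
      show (hist.getD (j : ℕ) 0 : ZMod (5 ^ (N + 1))) * ff ρ N (swaps (repSwaps j)) =
        (counts t j : ZMod (5 ^ (N + 1))) * ff ρ N (swaps (repSwaps j)) by
          rw [hcount j (List.mem_finRange j)]]
    unfold counts
    induction t.toList with
    | nil => simp
    | cons x l ih =>
      rw [List.map_cons, List.sum_cons, ih]
      simp only [List.countP_cons, Nat.cast_add, add_mul, Finset.sum_add_distrib]
      refine Eq.trans ?_ (add_comm _ _)
      congr 1
      simp [apply_ite (Nat.cast (R := ZMod (5 ^ (N + 1)))), ite_mul]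
  · intro x hx
    obtain ⟨hp, hc⟩ := hconj x hx
    obtain ⟨y, hy⟩ := exists_rep_of_isPerm hp
    have e1 : Rep (comp 10 x.2.2.2.1 x.1) (y * nodePerm (gens.map swaps) x) :=
      Rep.mul (by norm_num) hy (hr x hx)
    have e2 : Rep (comp 10 (swapsCode (repSwaps (nodeType x))) x.2.2.2.1)
        (swaps (repSwaps (nodeType x)) * y) :=
      Rep.mul (by norm_num) (rep_swaps (by norm_num) (repSwaps (nodeType x))) hy
    rw [← hc] at e2
    have e : y * nodePerm (gens.map swaps) x = swaps (repSwaps (nodeType x)) * y :=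
      Rep.unique e1 e2
    show ff ρ N (nodePerm (gens.map swaps) x) = _
    rw [← ff_conj ρ N y, e, mul_inv_cancel_right]

theorem check1 : checkClasses gens1 tree1 hist1 = true := by decide +kernel
theorem check2 : checkClasses gens2 tree2 hist2 = true := by decide +kernel
theorem check3 : checkClasses gens3 tree3 hist3 = true := by decide +kernel
theorem check4 : checkClasses gens4 tree4 hist4 = true := by decide +kernel
theorem check5 : checkClasses gens5 tree5 hist5 = true := by decide +kernel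
theorem check6 : checkClasses gens6 tree6 hist6 = true := by decide +kernel
theorem check7 : checkClasses gens7 tree7 hist7 = true := by decide +kernel
theorem check8 : checkClasses gens8 tree8 hist8 = true := by decide +kernel
theorem check9 : checkClasses gens9 tree9 hist9 = true := by decide +kernel
theorem check10 : checkClasses gens10 tree10 hist10 = true := by decide +kernel
theorem check11 : checkClasses gens11 tree11 hist11 = true := by decide +kernel
theorem check12 : checkClasses gens12 tree12 hist12 = true := by decide +kernel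
theorem check13 : checkClasses gens13 tree13 hist13 = true := by decide +kernel
theorem check14 : checkClasses gens14 tree14 hist14 = true := by decide +kernel
theorem check15 : checkClasses gens15 tree15 hist15 = true := by decide +kernel
theorem check16 : checkClasses gens16 tree16 hist16 = true := by decide +kernel
theorem check17 : checkClasses gens17 tree17 hist17 = true := by decide +kernel
theorem check18 : checkClasses gens18 tree18 hist18 = true := by decide +kernel

/-- The certificate: the combination of the class distributions is concentrated at the identity. -/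
theorem identity : ∀ j : Fin 18,
    -90 * 24 * (hist1.getD j 0 : ℤ) + -270 * 12 * (hist2.getD j 0 : ℤ)
    + -720 * 4 * (hist3.getD j 0 : ℤ) + 90 * 48 * (hist4.getD j 0 : ℤ)
    + -45 * 192 * (hist5.getD j 0 : ℤ) + 2030 * 48 * (hist6.getD j 0 : ℤ)
    + -1015 * 192 * (hist7.getD j 0 : ℤ) + 2220 * 48 * (hist8.getD j 0 : ℤ)
    + -1110 * 192 * (hist9.getD j 0 : ℤ) + 330 * 48 * (hist10.getD j 0 : ℤ)
    + -165 * 192 * (hist11.getD j 0 : ℤ) + 5150 * 2 * (hist12.getD j 0 : ℤ)
    + -5150 * 6 * (hist13.getD j 0 : ℤ) + -1720 * 4 * (hist14.getD j 0 : ℤ)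
    + 720 * 8 * (hist15.getD j 0 : ℤ) + -720 * 16 * (hist16.getD j 0 : ℤ)
    + 360 * 2 * (hist17.getD j 0 : ℤ) + -360 * 8 * (hist18.getD j 0 : ℤ)
      = if j = 0 then (1152 - 576 * 467 : ℤ) else 0 := by
  decide +kernel

theorem eq_zero (ρ : A10 →* GL (Fin n) (ZMod 5)) (hρ : NoFixed ρ) : n = 0 := by
  set N := 100000000 * n with hN
  have hq : N < 5 ^ (N + 1) := (Nat.lt_succ_self N).trans (Nat.lt_pow_self (by norm_num))
  let F : Fin 18 → ZMod (5 ^ (N + 1)) := fun j => ff ρ N (swaps (repSwaps j))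
  have h0 : F 0 = 2 * (n : ZMod (5 ^ (N + 1))) := by
    have h1 : swaps (repSwaps 0) = 1 := by decide +kernel
    show ff ρ N (swaps (repSwaps 0)) = _
    rw [h1, ff, mul_one, mul_inv_cancel, bb, dif_pos (one_mem _), ← two_mul]
    rw [show (⟨1, one_mem _⟩ : A10) = 1 from rfl, map_one, beta_one]
  have hd : ∀ {gens : List (List (Fin 10 × Fin 10))} {t : PTree (ℕ × ℕ × ℕ)} {hist : List ℕ},
      checkClasses gens t hist = true → ∀ (w : ℤ) (k : ℕ), t.toList.length * k = 576 →
      ((w * 576 * (dim2 ρ gens : ℤ) : ℤ) : ZMod (5 ^ (N + 1))) =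
        ∑ j : Fin 18, ((w * k * (hist.getD j 0 : ℤ) : ℤ) : ZMod (5 ^ (N + 1))) * F j := by
    intro gens t hist h w k hk
    rw [show (w * 576 * (dim2 ρ gens : ℤ) : ℤ) =
      w * k * ((t.toList.length * dim2 ρ gens : ℕ) : ℤ) by
        rw [show (576 : ℤ) = ((t.toList.length * k : ℕ) : ℤ) by rw [hk]; rfl]; push_cast; ring,
      Int.cast_mul, Int.cast_natCast, card_mul_dim2 h ρ N, Finset.mul_sum]
    refine Finset.sum_congr rfl fun j _ => ?_
    push_cast
    ring
  have l5 := dim2_five hρ (ims := images0) (by decide +kernel) (by decide +kernel)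
    (by decide +kernel) (gA := gens4) (gC := gens5) (by decide +kernel) (by decide +kernel)
  have l6 := dim2_five hρ (ims := images1) (by decide +kernel) (by decide +kernel)
    (by decide +kernel) (gA := gens6) (gC := gens7) (by decide +kernel) (by decide +kernel)
  have l8 := dim2_five hρ (ims := images2) (by decide +kernel) (by decide +kernel)
    (by decide +kernel) (gA := gens8) (gC := gens9) (by decide +kernel) (by decide +kernel)
  have l10 := dim2_five hρ (ims := images3) (by decide +kernel) (by decide +kernel)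
    (by decide +kernel) (gA := gens10) (gC := gens11) (by decide +kernel) (by decide +kernel)
  have m12 := dim2_mono ρ (gens := gens12) (gens' := gens13) (t := tree12) (by decide +kernel)
  have m15 := dim2_mono ρ (gens := gens15) (gens' := gens16) (t := tree15) (by decide +kernel)
  have m17 := dim2_mono ρ (gens := gens17) (gens' := gens18) (t := tree17) (by decide +kernel)
  have b := fun g => dim2_le ρ g
  set Z : ℤ := 467 * (2 * n) + (-90 * dim2 ρ gens1 + -270 * dim2 ρ gens2 + -720 * dim2 ρ gens3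
    + 90 * dim2 ρ gens4 + -45 * dim2 ρ gens5 + 2030 * dim2 ρ gens6 + -1015 * dim2 ρ gens7
    + 2220 * dim2 ρ gens8 + -1110 * dim2 ρ gens9 + 330 * dim2 ρ gens10 + -165 * dim2 ρ gens11
    + 5150 * dim2 ρ gens12 + -5150 * dim2 ρ gens13 + -1720 * dim2 ρ gens14
    + 720 * dim2 ρ gens15 + -720 * dim2 ρ gens16 + 360 * dim2 ρ gens17 + -360 * dim2 ρ gens18)
    with hZ
  have hcong : ((576 * Z - 2304 * n : ℤ) : ZMod (5 ^ (N + 1))) = 0 := by
    have e1 : (576 * Z - 2304 * n : ℤ) = -(1152 - 576 * 467) * (2 * n) +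
      (-90 * 576 * dim2 ρ gens1 + -270 * 576 * dim2 ρ gens2 + -720 * 576 * dim2 ρ gens3
      + 90 * 576 * dim2 ρ gens4 + -45 * 576 * dim2 ρ gens5 + 2030 * 576 * dim2 ρ gens6
      + -1015 * 576 * dim2 ρ gens7 + 2220 * 576 * dim2 ρ gens8 + -1110 * 576 * dim2 ρ gens9
      + 330 * 576 * dim2 ρ gens10 + -165 * 576 * dim2 ρ gens11 + 5150 * 576 * dim2 ρ gens12
      + -5150 * 576 * dim2 ρ gens13 + -1720 * 576 * dim2 ρ gens14 + 720 * 576 * dim2 ρ gens15
      + -720 * 576 * dim2 ρ gens16 + 360 * 576 * dim2 ρ gens17 + -360 * 576 * dim2 ρ gens18) := by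
      rw [hZ]; ring
    have e2 : ∑ j : Fin 18, (((if j = 0 then (1152 - 576 * 467 : ℤ) else 0) : ℤ) :
        ZMod (5 ^ (N + 1))) * F j = ((1152 - 576 * 467 : ℤ) : ZMod (5 ^ (N + 1))) * F 0 := by
      rw [Finset.sum_eq_single 0]
      · rw [if_pos rfl]
      · intro j _ hj; rw [if_neg hj, Int.cast_zero, zero_mul]
      · exact fun h => absurd (Finset.mem_univ _) h
    rw [e1]
    simp only [Int.cast_add]
    rw [hd check1 (-90) 24 (by decide +kernel), hd check2 (-270) 12 (by decide +kernel),
      hd check3 (-720) 4 (by decide +kernel), hd check4 90 48 (by decide +kernel),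
      hd check5 (-45) 192 (by decide +kernel), hd check6 2030 48 (by decide +kernel),
      hd check7 (-1015) 192 (by decide +kernel), hd check8 2220 48 (by decide +kernel),
      hd check9 (-1110) 192 (by decide +kernel), hd check10 330 48 (by decide +kernel),
      hd check11 (-165) 192 (by decide +kernel), hd check12 5150 2 (by decide +kernel),
      hd check13 (-5150) 6 (by decide +kernel), hd check14 (-1720) 4 (by decide +kernel),
      hd check15 720 8 (by decide +kernel), hd check16 (-720) 16 (by decide +kernel),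
      hd check17 360 2 (by decide +kernel), hd check18 (-360) 8 (by decide +kernel)]
    simp only [← Finset.sum_add_distrib, ← add_mul, ← Int.cast_add, Nat.cast_ofNat, identity, e2,
      h0]
    push_cast
    ring
  have hzero : (576 * Z - 2304 * n : ℤ) = 0 := by
    refine Int.eq_zero_of_abs_lt_dvd ((ZMod.intCast_zmod_eq_zero_iff_dvd _ _).1 hcong) ?_
    rw [abs_lt]
    have hq' : ((N : ℤ)) < ((5 ^ (N + 1) : ℕ) : ℤ) := by exact_mod_cast hq
    have := b gens1; have := b gens2; have := b gens3; have := b gens4; have := b gens5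
    have := b gens6; have := b gens7; have := b gens8; have := b gens9; have := b gens10
    have := b gens11; have := b gens12; have := b gens13; have := b gens14; have := b gens15
    have := b gens16; have := b gens17; have := b gens18
    generalize ((5 ^ (N + 1) : ℕ) : ℤ) = q at hq' ⊢
    rcases Nat.eq_zero_or_pos n with hn | hn <;> constructor <;> omega
  omega

end CfsgLib.SolvCentAlt.Five
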