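import Mathlib
import Cfsg.Agent.Coprime.Action

/-!
# Elements with nonsolvable centralizer in extensions of simple groups
-/

set_option autoImplicit false
set_option linter.style.haveILetI false

universe u

namespace CfsgLib.SolvCentAlt

open scoped Pointwise

variable {p : ℕ} {A : Type} [Group A]

/-- A noncentral element of prime power order with nonsolvable centralizer. -/
def BadElt (p : ℕ) (X : Type*) [Group X] : Prop :=
  ∃ y : X, y ∉ Subgroup.center X ∧ (∃ k : ℕ, orderOf y = p ^ k) ∧
    ¬ Group.IsSolvable (Subgroup.centralizer ({y} : Set X))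

/-- The invariant subspaces of a nonzero module are trivial, and then some nonsolvable subgroup
fixes a nonzero vector. -/
def HasFixed (p : ℕ) (A : Type) [Group A] : Prop :=
  ∀ (V : Type u) [AddCommGroup V] [Module (ZMod p) V] [Finite V] [Nontrivial V]
    (σ : Representation (ZMod p) A V),
    (∀ W : Submodule (ZMod p) V, (∀ g, ∀ w ∈ W, σ g w ∈ W) → W = ⊥ ∨ W = ⊤) →
    ∃ v : V, v ≠ 0 ∧ ∃ L : Subgroup A, ¬ Group.IsSolvable L ∧ ∀ g ∈ L, σ g v = v

/-- A representation over `ZMod p` from an action by additive maps. -/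
noncomputable def repOfAddHom {W : Type*} [AddCommGroup W] [Module (ZMod p) W] (act : A → W →+ W)
    (h1 : ∀ v, act 1 v = v) (hm : ∀ g h v, act (g * h) v = act g (act h v)) :
    Representation (ZMod p) A W where
  toFun g := (act g).toZModLinearMap p
  map_one' := LinearMap.ext fun v => h1 v
  map_mul' g h := LinearMap.ext fun v => hm g h v

theorem not_isSolvable_comap {X : Type*} [Group X] {f : X →* A} (hf : Function.Surjective f)
    {L : Subgroup A} (hL : ¬ Group.IsSolvable L) : ¬ Group.IsSolvable (L.comap f) := by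
  intro h
  exact hL (Group.isSolvable_of_surjective (f := f.subgroupComap L)
    (MonoidHom.subgroupComap_surjective_of_surjective _ _ hf))

theorem not_isSolvable_centralizer {X : Type*} [Group X] {M : Subgroup X}
    (hM : ¬ Group.IsSolvable M) {y : X} (h : ∀ m ∈ M, m * y * m⁻¹ * y⁻¹ ∈ Subgroup.center X) :
    ¬ Group.IsSolvable (Subgroup.centralizer ({y} : Set X)) := by
  intro hC
  let φ : M →* Subgroup.center X :=
    { toFun := fun m => ⟨(m : X) * y * (m : X)⁻¹ * y⁻¹, h m m.2⟩
      map_one' := Subtype.ext (by simp)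
      map_mul' := fun a b => Subtype.ext (by
        have hz := Subgroup.mem_center_iff.1 (h b b.2)
        simp only [Subgroup.coe_mul]
        calc _ = (a : X) * ((b : X) * y * (b : X)⁻¹ * y⁻¹) * y * (a : X)⁻¹ * y⁻¹ := by group
          _ = ((b : X) * y * (b : X)⁻¹ * y⁻¹) * ((a : X) * y * (a : X)⁻¹ * y⁻¹) := by
            rw [hz (a : X)]; group
          _ = _ := (hz _).symm) }
  haveI : Group.IsSolvable (Subgroup.center X) := Group.isSolvable_of_comm fun a b =>
    Subtype.ext (Subgroup.mem_center_iff.1 b.2 a)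
  let C : Subgroup M := (Subgroup.centralizer ({y} : Set X)).comap M.subtype
  haveI : Group.IsSolvable C := Group.isSolvable_of_isSolvable_injective
    (f := M.subtype.subgroupComap (Subgroup.centralizer ({y} : Set X)))
    fun a b hab => Subtype.ext (Subtype.ext (congrArg Subtype.val hab :))
  refine hM (Group.isSolvable_of_ker_le_range C.subtype φ fun m hm => ?_)
  rw [Subgroup.range_subtype]
  show (m : X) ∈ Subgroup.centralizer ({y} : Set X)
  rw [Subgroup.mem_centralizer_singleton_iff]
  have h1 : (m : X) * y * (m : X)⁻¹ * y⁻¹ = 1 := congrArg Subtype.val hm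
  rw [mul_inv_eq_one, mul_inv_eq_iff_eq_mul] at h1
  exact h1

theorem not_mem_center {X : Type*} [Group X] {f : X →* A} (hf : Function.Surjective f)
    (hA : Subgroup.center A = ⊥) {y : X} (hy : f y ≠ 1) : y ∉ Subgroup.center X := by
  intro h
  apply hy
  rw [← Subgroup.mem_bot, ← hA, Subgroup.mem_center_iff]
  intro a
  obtain ⟨x, rfl⟩ := hf a
  rw [← map_mul, ← map_mul, Subgroup.mem_center_iff.1 h x]

variable [hp : Fact p.Prime]

theorem exists_orderOf_eq_of_pow {X : Type*} [Group X] [Finite X] {f : X →* A}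
    (hK : IsPGroup p f.ker) {y : X} (hy : f y ^ p = 1) : ∃ k : ℕ, orderOf y = p ^ k := by
  obtain ⟨k, hk⟩ := hK ⟨y ^ p, by rw [MonoidHom.mem_ker, map_pow, hy]⟩
  have h1 : y ^ p ^ (k + 1) = 1 := by
    rw [pow_succ', pow_mul]
    exact congrArg Subtype.val hk
  obtain ⟨j, -, hj⟩ := (Nat.dvd_prime_pow hp.out).1 (orderOf_dvd_of_pow_eq_one h1)
  exact ⟨j, hj⟩

/-- Central extensions. -/
theorem badElt_of_central {X : Type*} [Group X] [Finite X] {f : X →* A}
    (hf : Function.Surjective f) (hK : IsPGroup p f.ker) (hKc : f.ker ≤ Subgroup.center X)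
    (hA : Subgroup.center A = ⊥) {x : A} (hx1 : x ≠ 1) (hxp : x ^ p = 1) {L : Subgroup A}
    (hL : ¬ Group.IsSolvable L) (hcomm : ∀ l ∈ L, l * x = x * l) : BadElt p X := by
  obtain ⟨y, rfl⟩ := hf x
  refine ⟨y, not_mem_center hf hA hx1, exists_orderOf_eq_of_pow hK hxp,
    not_isSolvable_centralizer (not_isSolvable_comap hf hL) fun m hm => hKc ?_⟩
  rw [MonoidHom.mem_ker, map_mul, map_mul, map_mul, map_inv, map_inv,
    hcomm _ (Subgroup.mem_comap.1 hm)]
  group

/-- Extensions in which the centralizing subgroup is coprime. -/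
theorem badElt_of_coprime {X : Type*} [Group X] [Finite X] {f : X →* A}
    (hf : Function.Surjective f) (hK : IsPGroup p f.ker)
    (hA : Subgroup.center A = ⊥) {x : A} (hx1 : x ≠ 1) (hxp : x ^ p = 1) {L : Subgroup A}
    (hL : ¬ Group.IsSolvable L) (hcop : (Nat.card L).Coprime p)
    (hcomm : ∀ l ∈ L, l * x = x * l) : BadElt p X := by
  obtain ⟨y, rfl⟩ := hf x
  obtain ⟨i, hi⟩ := IsPGroup.iff_card.1 hK
  let g : L.comap f →* L := f.subgroupComap L
  have hg : Function.Surjective g := MonoidHom.subgroupComap_surjective_of_surjective _ _ hf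
  have hkc : Nat.card g.ker = Nat.card f.ker := Nat.card_congr
    { toFun := fun a => ⟨(a.1 : X), congrArg Subtype.val a.2⟩
      invFun := fun a => ⟨⟨(a : X), by
        rw [Subgroup.mem_comap, MonoidHom.mem_ker.1 a.2]; exact one_mem _⟩,
        Subtype.ext (MonoidHom.mem_ker.1 a.2)⟩
      left_inv := fun a => rfl
      right_inv := fun a => rfl }
  have hindex : g.ker.index = Nat.card L := by
    rw [Subgroup.index_ker, MonoidHom.range_eq_top_of_surjective _ hg, Subgroup.card_top]
  obtain ⟨R, hR⟩ := Subgroup.exists_right_complement'_of_coprime (N := g.ker) (by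
    rw [hkc, hi, hindex]; exact Nat.Coprime.pow_left i hcop.symm)
  have hRinj : Function.Injective (g.comp R.subtype) := by
    rw [injective_iff_map_eq_one]
    intro a ha
    have : a.1 ∈ g.ker ⊓ R := ⟨ha, a.2⟩
    rw [hR.disjoint.eq_bot, Subgroup.mem_bot] at this
    exact Subtype.ext this
  have hRsurj : Function.Surjective (g.comp R.subtype) := by
    intro l
    obtain ⟨z, rfl⟩ := hg l
    obtain ⟨⟨a, b⟩, hab, -⟩ := hR.existsUnique z
    refine ⟨b, ?_⟩
    rw [← hab, MonoidHom.comp_apply, Subgroup.coe_subtype, map_mul, MonoidHom.mem_ker.1 a.2,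
      one_mul]
  set R' : Subgroup X := R.map (L.comap f).subtype with hR'
  have hcardR : Nat.card R' = Nat.card L := by
    rw [hR', Subgroup.card_map_of_injective (Subgroup.subtype_injective _)]
    exact Nat.card_congr (Equiv.ofBijective _ ⟨hRinj, hRsurj⟩)
  obtain ⟨c, hc, hck⟩ := CfsgLib.Coprime.exists_fixed_mem_coset (A := R') (N := f.ker) (k := y)
    (by intro a _; rw [Subgroup.mem_normalizer_iff]; intro n
        simp [MonoidHom.mem_ker])
    (by rw [hcardR, hi]; exact Nat.Coprime.pow_right i hcop)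
    (Or.inr (haveI := hK.isNilpotent; inferInstance))
    (fun a ha => by
      obtain ⟨b, -, rfl⟩ := ha
      rw [MonoidHom.mem_ker, map_mul, map_mul, map_mul, map_inv, map_inv, Subgroup.coe_subtype,
        hcomm _ b.2]
      group)
  have hfc : f c = f y := by
    rw [MonoidHom.mem_ker, map_mul, map_inv, inv_mul_eq_one] at hck
    exact hck.symm
  refine ⟨c, not_mem_center hf hA (hfc ▸ hx1), exists_orderOf_eq_of_pow hK (hfc ▸ hxp), fun h => ?_⟩
  have hle : R' ≤ Subgroup.centralizer ({c} : Set X) := fun r hr => by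
    rw [Subgroup.mem_centralizer_singleton_iff]
    exact Subgroup.mem_centralizer_iff.1 hc r hr
  haveI := h
  haveI : Group.IsSolvable R' := Group.isSolvable_of_isSolvable_injective
    (Subgroup.inclusion_injective hle)
  haveI : Group.IsSolvable R := Group.isSolvable_of_isSolvable_injective
    (f := (R.equivMapOfInjective _ (Subgroup.subtype_injective (L.comap f))).toMonoidHom)
    (MulEquiv.injective _)
  exact hL (Group.isSolvable_of_surjective hRsurj)

/-- The module hypothesis for a multiplicatively written module. -/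
theorem exists_fixed_of_action (hmod : HasFixed.{u} p A) {W : Type u} [CommGroup W] [Finite W]
    [Nontrivial W] (hexp : ∀ w : W, w ^ p = 1) (act : A →* MulAut W)
    (hirr : ∀ T : Subgroup W, (∀ g, ∀ w ∈ T, act g w ∈ T) → T = ⊥ ∨ T = ⊤) :
    ∃ v : W, v ≠ 1 ∧ ∃ L : Subgroup A, ¬ Group.IsSolvable L ∧ ∀ g ∈ L, act g v = v := by
  letI : Module (ZMod p) (Additive W) := AddCommGroup.zmodModule fun w => hexp (Additive.toMul w)
  haveI : Finite (Additive W) := ‹Finite W›
  haveI : Nontrivial (Additive W) := ‹Nontrivial W›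
  obtain ⟨v, hv, L, hL, hfix⟩ := hmod (Additive W)
    (repOfAddHom (fun g => MonoidHom.toAdditive (act g).toMonoidHom)
      (fun v => by
        show Additive.ofMul (act 1 (Additive.toMul v)) = v
        rw [map_one]; rfl)
      fun g h v => by
        show Additive.ofMul (act (g * h) (Additive.toMul v)) =
          Additive.ofMul (act g (act h (Additive.toMul v)))
        rw [map_mul]; rfl)
    fun S hS => by
      let T : Subgroup W :=
        { carrier := {w | Additive.ofMul w ∈ S}
          mul_mem' := fun {a b} ha hb => S.add_mem ha hb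
          one_mem' := S.zero_mem
          inv_mem' := fun {a} ha => S.neg_mem ha }
      rcases hirr T fun g w hw => hS g (Additive.ofMul w) hw with h | h
      · left
        rw [Submodule.eq_bot_iff]
        intro x hx
        have : Additive.toMul x ∈ T := hx
        rw [h, Subgroup.mem_bot] at this
        exact Additive.toMul.injective this
      · right
        rw [Submodule.eq_top_iff']
        intro x
        exact (h ▸ Subgroup.mem_top _ : Additive.toMul x ∈ T)
  exact ⟨Additive.toMul v, fun h => hv (Additive.toMul.injective h), L, hL,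
    fun g hg => congrArg Additive.toMul (hfix g hg)⟩

/-- Noncentral extensions by `p`-groups. -/
theorem badElt_of_module {X : Type u} [Group X] [Finite X] {f : X →* A}
    (hf : Function.Surjective f) (hK : IsPGroup p f.ker)
    (hnc : ¬ f.ker ≤ Subgroup.center X) (hmod : HasFixed.{u} p A) : BadElt p X := by
  classical
  set Z := Subgroup.center X ⊓ f.ker with hZ
  have hZn : Z.Normal := inferInstance
  set π := QuotientGroup.mk' Z with hπ
  let fb : X ⧸ Z →* A := QuotientGroup.lift Z f inf_le_right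
  have hfb : ∀ x, fb (π x) = f x := fun x => rfl
  have hfb' : Function.Surjective fb := fun a => by
    obtain ⟨x, rfl⟩ := hf a
    exact ⟨π x, rfl⟩
  have hKb : IsPGroup p fb.ker := by
    intro a
    obtain ⟨x, hx⟩ := QuotientGroup.mk'_surjective Z a.1
    obtain ⟨k, hk⟩ := hK ⟨x, by rw [MonoidHom.mem_ker, ← hfb, hπ, hx]; exact a.2⟩
    refine ⟨k, Subtype.ext ?_⟩
    rw [SubgroupClass.coe_pow, ← hx, ← map_pow,
      show x ^ p ^ k = 1 from congrArg Subtype.val hk, map_one]
    rfl
  have hne : fb.ker ≠ ⊥ := by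
    intro h
    refine hnc fun x hx => ?_
    have : π x ∈ fb.ker := hx
    rw [h, Subgroup.mem_bot, hπ, QuotientGroup.mk'_apply, QuotientGroup.eq_one_iff] at this
    exact this.1
  obtain ⟨V, ⟨hVn, hVne, hVK⟩, hmin⟩ := WellFounded.has_min
    (wellFounded_lt (α := Subgroup (X ⧸ Z)))
    {W : Subgroup (X ⧸ Z) | W.Normal ∧ W ≠ ⊥ ∧ W ≤ fb.ker} ⟨fb.ker, inferInstance, hne, le_rfl⟩
  haveI := hVn
  have hsub : ∀ W : Subgroup (X ⧸ Z), W.Normal → W ≠ ⊥ → W ≤ V → W = V := fun W h1 h2 h3 => by
    by_contra hWV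
    exact hmin W ⟨h1, h2, h3.trans hVK⟩ (lt_of_le_of_ne h3 hWV)
  haveI : Nontrivial V := (Subgroup.nontrivial_iff_ne_bot V).2 hVne
  have hVp : IsPGroup p V := hKb.to_le hVK
  have hdvd : p ∣ Nat.card V := by
    obtain ⟨k, hk⟩ := IsPGroup.iff_card.1 hVp
    rw [hk]
    refine dvd_pow_self _ fun hk0 => ?_
    rw [hk0, pow_zero] at hk
    exact absurd hk (Finite.one_lt_card (α := V)).ne'
  -- the kernel centralizes `V`
  have hcent : ∀ k ∈ fb.ker, ∀ v ∈ V, k * v = v * k := by
    let W : Subgroup (X ⧸ Z) := V ⊓ Subgroup.centralizer (fb.ker : Set (X ⧸ Z))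
    letI : MulAction fb.ker V :=
      { smul := fun k v => ⟨k.1 * v.1 * k.1⁻¹, hVn.conj_mem _ v.2 _⟩
        one_smul := fun v => Subtype.ext (by
          show (1 : X ⧸ Z) * v.1 * (1 : X ⧸ Z)⁻¹ = v.1
          group)
        mul_smul := fun a b v => Subtype.ext (by
          show (a.1 * b.1) * v.1 * (a.1 * b.1)⁻¹ = a.1 * (b.1 * v.1 * b.1⁻¹) * a.1⁻¹
          group) }
    obtain ⟨w, hw, hw1⟩ := hKb.exists_fixed_point_of_prime_dvd_card_of_fixed_point V hdvd
      (a := (1 : V)) (fun k => Subtype.ext (by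
        show k.1 * (1 : X ⧸ Z) * k.1⁻¹ = 1
        group))
    have hwW : w.1 ∈ W := by
      refine ⟨w.2, Subgroup.mem_centralizer_iff.2 fun k hk => ?_⟩
      have h1 : k * w.1 * k⁻¹ = w.1 := congrArg Subtype.val (hw ⟨k, hk⟩)
      exact mul_inv_eq_iff_eq_mul.1 h1
    have hWV : W = V := hsub W inferInstance
      (fun h => hw1 (Subtype.ext (Subgroup.mem_bot.1 (h ▸ hwW)).symm)) inf_le_left
    intro k hk v hv
    have : v ∈ W := hWV.symm ▸ hv
    exact Subgroup.mem_centralizer_iff.1 this.2 k hk
  have hcomm : ∀ a b : V, a * b = b * a := fun a b => Subtype.ext (hcent _ (hVK a.2) _ b.2)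
  letI : CommGroup V := { (inferInstance : Group V) with mul_comm := hcomm }
  -- exponent `p`
  have hexp : ∀ v : V, v ^ p = 1 := by
    let T : Subgroup (X ⧸ Z) :=
      { carrier := {v | v ∈ V ∧ v ^ p = 1}
        mul_mem' := fun {a b} ha hb => ⟨mul_mem ha.1 hb.1, by
          rw [(show Commute a b from hcent a (hVK ha.1) b hb.1).mul_pow, ha.2, hb.2, one_mul]⟩
        one_mem' := ⟨one_mem _, one_pow _⟩
        inv_mem' := fun {a} ha => ⟨inv_mem ha.1, by rw [inv_pow, ha.2, inv_one]⟩ }
    have hTn : T.Normal := ⟨fun v hv g => ⟨hVn.conj_mem _ hv.1 g, by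
      rw [conj_pow, hv.2, mul_one, mul_inv_cancel]⟩⟩
    obtain ⟨v, hv⟩ := exists_prime_orderOf_dvd_card' p hdvd
    have hTV : T = V := hsub T hTn (fun h => by
      have hmem : (v : X ⧸ Z) ∈ T :=
        ⟨v.2, by rw [← hv, ← Subgroup.orderOf_coe]; exact pow_orderOf_eq_one _⟩
      rw [h, Subgroup.mem_bot] at hmem
      have : v = 1 := Subtype.ext hmem
      rw [this, orderOf_one] at hv
      exact hp.out.ne_one hv.symm) fun v hv => hv.1
    intro v
    exact Subtype.ext (hTV.symm ▸ v.2 : (v : X ⧸ Z) ∈ T).2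
  -- the representation
  let c : X ⧸ Z →* MulAut V := MulAut.conjNormal
  have hc : ∀ a b, fb a = fb b → c a = c b := by
    intro a b hab
    ext v
    show (MulAut.conjNormal a v : X ⧸ Z) = (MulAut.conjNormal b v : X ⧸ Z)
    rw [MulAut.conjNormal_apply, MulAut.conjNormal_apply]
    have hk : b⁻¹ * a ∈ fb.ker := by
      rw [MonoidHom.mem_ker, map_mul, map_inv, hab, inv_mul_cancel]
    calc a * v.1 * a⁻¹ = b * ((b⁻¹ * a) * v.1) * (b⁻¹ * a)⁻¹ * b⁻¹ := by group
      _ = b * v.1 * b⁻¹ := by rw [hcent _ hk _ v.2]; group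
  choose s hs using hfb'
  let act : A →* MulAut V := MonoidHom.mk' (fun g => c (s g)) fun g h => by
    rw [← map_mul]
    exact hc _ _ (by rw [hs, map_mul, hs, hs])
  have hact : ∀ (a : X ⧸ Z) (v : V), ((act (fb a) v : V) : X ⧸ Z) = a * (v : X ⧸ Z) * a⁻¹ :=
    fun a v => by
      show ((c (s (fb a)) v : V) : X ⧸ Z) = _
      rw [hc (s (fb a)) a (hs _)]
      exact MulAut.conjNormal_apply a v
  obtain ⟨v, hv0, L, hL, hfix⟩ := exists_fixed_of_action hmod hexp act fun W hW => by
    have hW'n : (W.map V.subtype).Normal := ⟨fun x hx g => by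
      obtain ⟨x', hx', rfl⟩ := hx
      exact ⟨act (fb g) x', hW _ _ hx', hact g x'⟩⟩
    rcases eq_or_ne (W.map V.subtype) ⊥ with h | h
    · exact Or.inl ((Subgroup.map_eq_bot_iff_of_injective _ (Subgroup.subtype_injective V)).1 h)
    · right
      apply Subgroup.map_injective (Subgroup.subtype_injective V)
      rw [hsub _ hW'n h (Subgroup.map_subtype_le W), ← MonoidHom.range_eq_map,
        Subgroup.range_subtype]
  obtain ⟨w, hw⟩ := QuotientGroup.mk'_surjective Z (v : X ⧸ Z)
  have hwK : w ∈ f.ker := by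
    rw [MonoidHom.mem_ker, ← hfb, hπ, hw]
    exact hVK v.2
  have hZc : Z ≤ Subgroup.center X := inf_le_left
  refine ⟨w, fun h => hv0 ?_, ?_, not_isSolvable_centralizer (not_isSolvable_comap hf hL)
    fun m hm => hZc ?_⟩
  · have h1 : π w = 1 := by
      rw [hπ, QuotientGroup.mk'_apply, QuotientGroup.eq_one_iff]
      exact ⟨h, hwK⟩
    rw [hπ, hw] at h1
    exact Subtype.ext h1
  · obtain ⟨k, hk⟩ := (IsPGroup.iff_orderOf.1 hK) ⟨w, hwK⟩
    exact ⟨k, by rw [← hk, ← Subgroup.orderOf_coe]⟩
  · rw [← QuotientGroup.eq_one_iff, ← QuotientGroup.mk'_apply, map_mul, map_mul, map_mul, map_inv,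
      map_inv, hw, mul_inv_eq_one]
    have h1 := congrArg Subtype.val (hfix (f m) (Subgroup.mem_comap.1 hm))
    rw [← hfb] at h1
    exact (hact (π m) v).symm.trans h1

/-- Lifting through normal subgroups of coprime order. -/
theorem badElt_of_quotient {X : Type*} [Group X] [Finite X] {Q : Subgroup X} [Q.Normal]
    (hQ : (Nat.card Q).Coprime p) (h : BadElt p (X ⧸ Q)) : BadElt p X := by
  obtain ⟨y', hnc, ⟨k, hk⟩, hns⟩ := h
  set π := QuotientGroup.mk' Q with hπ
  obtain ⟨y₀, hy₀⟩ := QuotientGroup.mk'_surjective Q y'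
  obtain ⟨a, b, hb, hab⟩ := Nat.exists_eq_pow_mul_and_not_dvd (orderOf_pos y₀).ne' p hp.out.ne_one
  have hbp : b.Coprime (p ^ k) :=
    Nat.Coprime.pow_right k ((hp.out.coprime_iff_not_dvd.2 hb).symm)
  obtain ⟨e, he⟩ : ∃ e, b * e ≡ 1 [MOD p ^ k] := by
    obtain ⟨e, he⟩ := (ZMod.isUnit_iff_coprime b (p ^ k)).2 hbp |>.exists_right_inv
    haveI : NeZero (p ^ k) := ⟨pow_ne_zero _ hp.out.ne_zero⟩
    refine ⟨e.val, ?_⟩
    rw [← ZMod.natCast_eq_natCast_iff, Nat.cast_mul, ZMod.natCast_zmod_val, Nat.cast_one]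
    exact he
  set y := y₀ ^ (b * e) with hy
  have hπy : π y = y' := by
    rw [hy, map_pow, hπ, hy₀]
    conv_rhs => rw [← pow_one y']
    rw [pow_eq_pow_iff_modEq, hk]
    exact he
  have hyo : ∃ j, orderOf y = p ^ j := by
    have h1 : y ^ p ^ a = 1 := by
      rw [hy, ← pow_mul, show b * e * p ^ a = (p ^ a * b) * e by ring, ← hab, pow_mul,
        pow_orderOf_eq_one, one_pow]
    obtain ⟨j, -, hj⟩ := (Nat.dvd_prime_pow hp.out).1 (orderOf_dvd_of_pow_eq_one h1)
    exact ⟨j, hj⟩
  obtain ⟨j, hj⟩ := hyo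
  have hord : orderOf y = orderOf y' := by
    refine Nat.dvd_antisymm ?_ (hπy ▸ orderOf_map_dvd _ y)
    rw [orderOf_dvd_iff_pow_eq_one]
    have hmem : y ^ orderOf y' ∈ Q := by
      rw [← QuotientGroup.eq_one_iff, ← QuotientGroup.mk'_apply, map_pow, ← hπ, hπy,
        pow_orderOf_eq_one]
    exact orderOf_eq_one_iff.1 (Nat.eq_one_of_dvd_coprimes
      (hj ▸ Nat.Coprime.pow_right j hQ) (Subgroup.orderOf_dvd_natCard Q hmem) (orderOf_pow_dvd _))
  refine ⟨y, fun h => hnc (hπy ▸ ?_), ⟨j, hj⟩, fun hsol => hns ?_⟩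
  · rw [Subgroup.mem_center_iff]
    intro g
    obtain ⟨x, rfl⟩ := QuotientGroup.mk'_surjective Q g
    rw [hπ, ← map_mul, ← map_mul, Subgroup.mem_center_iff.1 h x]
  have hsup : ∀ {s t : X}, π s = π t → Subgroup.zpowers s ≤ Q ⊔ Subgroup.zpowers t :=
    fun {s t} h => Subgroup.zpowers_le.2 <| by
      have hs : s * t⁻¹ ∈ Q := by
        rw [← QuotientGroup.eq_one_iff, ← QuotientGroup.mk'_apply, map_mul, map_inv, ← hπ, h,
          mul_inv_cancel]
      simpa [mul_assoc] using Subgroup.mul_mem_sup hs (Subgroup.mem_zpowers t)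
  have hcopy : (Nat.card Q).Coprime (Nat.card (Subgroup.zpowers y)) := by
    rw [Nat.card_zpowers, hj]
    exact Nat.Coprime.pow_right j hQ
  let φ : Subgroup.centralizer ({y} : Set X) →* X ⧸ Q := π.comp (Subgroup.subtype _)
  haveI := hsol
  haveI : Group.IsSolvable φ.range := Group.isSolvable_of_surjective φ.rangeRestrict_surjective
  have hle : Subgroup.centralizer ({y'} : Set (X ⧸ Q)) ≤ φ.range := by
    intro g hg
    obtain ⟨u, rfl⟩ := QuotientGroup.mk'_surjective Q g
    have hu : π (u * y * u⁻¹) = π y := by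
      rw [map_mul, map_mul, map_inv, hπy, mul_inv_eq_iff_eq_mul]
      exact Subgroup.mem_centralizer_singleton_iff.1 hg
    have hcu : Nat.card (Subgroup.zpowers (u * y * u⁻¹)) = Nat.card (Subgroup.zpowers y) := by
      rw [Nat.card_zpowers, Nat.card_zpowers, show u * y * u⁻¹ = MulAut.conj u y from rfl,
        MulEquiv.orderOf_eq]
    obtain ⟨q, hq, hconj⟩ := CfsgLib.Coprime.exists_conj_eq_of_sup_eq
      (N := Q) (H := Subgroup.zpowers (u * y * u⁻¹)) (K := Subgroup.zpowers y)
      Subgroup.le_normalizer_of_normal Subgroup.le_normalizer_of_normal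
      (by rw [hcu]; exact hcopy) hcu.symm
      (le_antisymm (sup_le le_sup_left (hsup hu)) (sup_le le_sup_left (hsup hu.symm)))
      (Or.inr (Group.isSolvable_of_comm fun a b =>
        Subtype.ext (by
          obtain ⟨i, hi⟩ := a.2
          obtain ⟨i', hi'⟩ := b.2
          show (a : X) * b = b * a
          rw [← hi, ← hi']
          exact (Commute.refl _).zpow_zpow i i')))
    have hmem : q * (u * y * u⁻¹) * q⁻¹ ∈ Subgroup.zpowers y := by
      rw [← hconj, Subgroup.mem_pointwise_smul_iff_inv_smul_mem]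
      simp [MulAut.smul_def, mul_assoc]
    obtain ⟨i, hi⟩ := hmem
    have hi' : y ^ i = q * (u * y * u⁻¹) * q⁻¹ := hi
    have hq1 : π q = 1 := (QuotientGroup.eq_one_iff q).2 hq
    have h1 : y' ^ i = y' ^ (1 : ℤ) := by
      rw [zpow_one, ← hπy, ← map_zpow, hi', map_mul, map_mul, hq1, hu, map_inv, hq1]
      group
    have h2 : y ^ i = y := by
      conv_rhs => rw [← zpow_one y]
      exact zpow_eq_zpow_iff_modEq.2 (hord ▸ zpow_eq_zpow_iff_modEq.1 h1)
    have hmemC : q * u ∈ Subgroup.centralizer ({y} : Set X) := by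
      rw [Subgroup.mem_centralizer_singleton_iff]
      rw [h2] at hi'
      calc q * u * y = (q * (u * y * u⁻¹) * q⁻¹) * (q * u) := by group
        _ = _ := by rw [← hi']
    exact ⟨⟨q * u, hmemC⟩, by simp [φ, hπ, (QuotientGroup.eq_one_iff q).2 hq]⟩
  exact Group.isSolvable_of_isSolvable_injective (Subgroup.inclusion_injective hle)

/-- The reduction to kernels of prime power order. -/
theorem badElt_of_minimal
    (hcore : ∀ (X : Type u) [Group X] [Finite X] (f : X →* A), Function.Surjective f →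
      commutator X = ⊤ → IsPGroup p f.ker → BadElt p X) :
    ∀ (m : ℕ) (X : Type u) [Group X] [Finite X] (f : X →* A), Nat.card X ≤ m →
      Function.Surjective f → commutator X = ⊤ →
      (∀ M : Subgroup X, M ⊔ f.ker = ⊤ → M = ⊤) → BadElt p X := by
  intro m
  induction m using Nat.strong_induction_on with
  | _ m ih =>
    intro X _ _ f hm hf hperf hfr
    by_cases hK : IsPGroup p f.ker
    · exact hcore X f hf hperf hK
    have hKfr : f.ker ≤ frattini X := by
      rw [frattini, Order.radical]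
      refine le_iInf₂ fun M hM => ?_
      by_contra hnle
      exact hM.1 (hfr M (hM.2 _ (left_lt_sup.2 hnle)))
    haveI := frattini_nilpotent (G := X)
    haveI : Group.IsNilpotent f.ker :=
      Group.nilpotent_of_mulEquiv (Subgroup.subgroupOfEquivOfLe hKfr)
    obtain ⟨q, hq, hqd, hqp⟩ : ∃ q, q.Prime ∧ q ∣ Nat.card f.ker ∧ q ≠ p := by
      by_contra! hcon
      exact hK (IsPGroup.of_card (Nat.eq_prime_pow_of_unique_prime_dvd Nat.card_pos.ne'
        fun {d} h1 h2 => hcon d h1 h2))
    haveI : Fact q.Prime := ⟨hq⟩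
    let S : Sylow q f.ker := default
    have hSn : (S : Subgroup f.ker).Normal := inferInstance
    haveI := S.characteristic_of_normal hSn
    set Q : Subgroup X := (S : Subgroup f.ker).map f.ker.subtype with hQdef
    haveI : Q.Normal := ConjAct.normal_of_characteristic_of_normal
    obtain ⟨i, hi⟩ := IsPGroup.iff_card.1 S.isPGroup'
    have hQcard : Nat.card Q = q ^ i := by
      rw [hQdef, Subgroup.card_map_of_injective (Subgroup.subtype_injective _), hi]
    have hQne : Q ≠ ⊥ := by
      rw [hQdef, Ne, Subgroup.map_eq_bot_iff_of_injective _ (Subgroup.subtype_injective _)]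
      exact S.ne_bot_of_dvd_card hqd
    have hQcop : (Nat.card Q).Coprime p := by
      rw [hQcard]
      exact Nat.Coprime.pow_left i ((Nat.coprime_primes hq hp.out).2 hqp)
    have hQK : Q ≤ f.ker := Subgroup.map_subtype_le _
    set π := QuotientGroup.mk' Q with hπ
    let f' : X ⧸ Q →* A := QuotientGroup.lift Q f hQK
    have hlt : Nat.card (X ⧸ Q) < Nat.card X := by
      rw [Q.card_eq_card_quotient_mul_card_subgroup]
      exact lt_mul_of_one_lt_right Nat.card_pos (Subgroup.one_lt_card_iff_ne_bot Q |>.2 hQne)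
    refine badElt_of_quotient hQcop (ih (Nat.card (X ⧸ Q)) (lt_of_lt_of_le hlt hm) (X ⧸ Q) f'
      le_rfl ?_ ?_ ?_)
    · intro a
      obtain ⟨x, rfl⟩ := hf a
      exact ⟨π x, rfl⟩
    · have h1 := congrArg (Subgroup.map π) hperf
      rwa [commutator_def, Subgroup.map_commutator,
        Subgroup.map_top_of_surjective _ (QuotientGroup.mk'_surjective Q), ← commutator_def] at h1
    · intro M hM
      have h1 : M.comap π ⊔ f.ker = ⊤ := by
        rw [Subgroup.eq_top_iff']
        intro x
        have hx : π x ∈ M ⊔ f'.ker := hM ▸ Subgroup.mem_top _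
        rw [Subgroup.mem_sup_of_normal_right] at hx
        obtain ⟨a, ha, b, hb, hab⟩ := hx
        obtain ⟨a', rfl⟩ := QuotientGroup.mk'_surjective Q a
        have hker : a'⁻¹ * x ∈ f.ker := by
          show f' (π (a'⁻¹ * x)) = 1
          rw [map_mul, map_inv, ← hab, hπ, inv_mul_cancel_left]
          exact hb
        have := Subgroup.mul_mem_sup (show a' ∈ M.comap π from ha) hker
        rwa [mul_inv_cancel_left] at this
      have h2 := hfr _ h1
      rw [Subgroup.eq_top_iff']
      intro a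
      obtain ⟨a', rfl⟩ := QuotientGroup.mk'_surjective Q a
      exact (h2 ▸ Subgroup.mem_top a' : a' ∈ M.comap π)

/-- The statement for a group with a subgroup mapping onto `A`. -/
theorem badElt_of_section {G : Type u} [Group G] [Finite G] {H₀ : Subgroup G} (f₀ : H₀ →* A)
    (hf₀ : Function.Surjective f₀) (hA : commutator A = ⊤)
    (hcore : ∀ (X : Type u) [Group X] [Finite X] (f : X →* A), Function.Surjective f →
      commutator X = ⊤ → IsPGroup p f.ker → BadElt p X) : BadElt p G := by
  obtain ⟨H, ⟨f, hf⟩, hmin⟩ := WellFounded.has_min (wellFounded_lt (α := Subgroup G))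
    {H : Subgroup G | ∃ f : H →* A, Function.Surjective f} ⟨H₀, f₀, hf₀⟩
  have key : ∀ M : Subgroup H, Function.Surjective (f.comp M.subtype) → M = ⊤ := by
    intro M hM
    by_contra hne
    refine hmin (M.map H.subtype) ⟨(f.comp M.subtype).comp
      (M.equivMapOfInjective _ (Subgroup.subtype_injective H)).symm.toMonoidHom,
      hM.comp (MulEquiv.surjective _)⟩ (lt_of_le_of_ne (Subgroup.map_subtype_le M) fun h => hne ?_)
    apply Subgroup.map_injective (Subgroup.subtype_injective H)
    rw [h, ← MonoidHom.range_eq_map, Subgroup.range_subtype]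
  have hperf : commutator H = ⊤ := by
    refine key _ fun a => ?_
    have : a ∈ (commutator H).map f := by
      rw [commutator_def, Subgroup.map_commutator, Subgroup.map_top_of_surjective _ hf,
        ← commutator_def, hA]
      exact Subgroup.mem_top a
    obtain ⟨x, hx, rfl⟩ := this
    exact ⟨⟨x, hx⟩, rfl⟩
  have hfr : ∀ M : Subgroup H, M ⊔ f.ker = ⊤ → M = ⊤ := by
    intro M hM
    refine key M fun a => ?_
    obtain ⟨x, rfl⟩ := hf a
    have hx : x ∈ M ⊔ f.ker := hM ▸ Subgroup.mem_top x
    rw [Subgroup.mem_sup_of_normal_right] at hx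
    obtain ⟨m, hm, k, hk, rfl⟩ := hx
    exact ⟨⟨m, hm⟩, by simp [MonoidHom.mem_ker.1 hk]⟩
  obtain ⟨y, hy, ⟨k, hk⟩, hns⟩ := badElt_of_minimal hcore _ H f le_rfl hf hperf hfr
  refine ⟨y, fun h => hy ?_, ⟨k, (Subgroup.orderOf_coe y).trans hk⟩, fun h => hns ?_⟩
  · rw [Subgroup.mem_center_iff]
    exact fun g => Subtype.ext (Subgroup.mem_center_iff.1 h g)
  · haveI := h
    exact Group.isSolvable_of_isSolvable_injective
      (f := (H.subtype.comp (Subgroup.subtype _)).codRestrict
        (Subgroup.centralizer ({(y : G)} : Set G)) fun c => by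
          rw [Subgroup.mem_centralizer_singleton_iff]
          exact congrArg Subtype.val (Subgroup.mem_centralizer_singleton_iff.1 c.2))
      fun a b hab => Subtype.ext (Subtype.ext (congrArg Subtype.val hab :))

end CfsgLib.SolvCentAlt
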