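import Mathlib

/-!
# Irreducible modules of ambivalent groups over finite fields are self-dual
-/

set_option autoImplicit false
set_option linter.style.haveILetI false

namespace CfsgLib.SolvCentAlt

/-- Two simple modules with the same trace function are not orthogonal. -/
theorem exists_hom_of_trace_eq {k : Type*} [Field k] [Finite k] {R : Type*} [Ring R] [Algebra k R]
    {V W : Type*} [AddCommGroup V] [AddCommGroup W] [Module k V] [Module k W] [Module R V]
    [Module R W] [IsScalarTower k R V] [IsScalarTower k R W] [FiniteDimensional k V]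
    [FiniteDimensional k W] [IsSimpleModule R V] [IsSimpleModule R W]
    (h : ∀ r : R, LinearMap.trace k V (Algebra.lsmul k k V r) =
      LinearMap.trace k W (Algebra.lsmul k k W r)) :
    (∃ f : V →ₗ[R] W, f ≠ 0) ∨ ∃ f : W →ₗ[R] V, f ≠ 0 := by
  classical
  by_contra! hcon
  obtain ⟨h1, h2⟩ := hcon
  haveI : Finite V := Module.finite_of_finite k
  haveI : SMulCommClass R k V := IsScalarTower.to_smulCommClass'
  haveI : Finite (Module.End R V) :=
    Finite.of_injective (fun f => (f : V → V)) DFunLike.coe_injective
  letI : DivisionRing (Module.End R V) := Module.End.instDivisionRing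
  letI : Field (Module.End R V) := littleWedderburn _
  haveI : FiniteDimensional k (Module.End R V) := Module.Finite.of_finite
  haveI : IsScalarTower k (Module.End R V) V := ⟨fun c f v => rfl⟩
  obtain ⟨d, hd⟩ := Algebra.trace_surjective k (Module.End R V) 1
  haveI : Nontrivial V := IsSimpleModule.nontrivial R V
  let b := Module.Free.chooseBasis (Module.End R V) V
  obtain ⟨i₀⟩ : Nonempty (Module.Free.ChooseBasisIndex (Module.End R V) V) := b.index_nonempty
  let π : V →ₗ[k] Module.End R V := (b.coord i₀).restrictScalars k
  let ι : Module.End R V →ₗ[k] V :=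
    ((LinearMap.toSpanSingleton (Module.End R V) V (b i₀)).restrictScalars k) ∘ₗ
      LinearMap.mulLeft k d
  have hπι : π ∘ₗ ι = LinearMap.mulLeft k d := LinearMap.ext fun y => by
    show b.coord i₀ ((d * y) • b i₀) = d * y
    rw [map_smul, smul_eq_mul, Module.Basis.coord_apply, Module.Basis.repr_self,
      Finsupp.single_eq_same, mul_one]
  -- the endomorphism of the direct sum
  let F : Module.End (Module.End R (V × W)) (V × W) :=
    { toFun := fun x => (ι (π x.1), 0)
      map_add' := fun x y => by simp
      map_smul' := fun φ x => by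
        have key : ∀ y : V × W, φ y = ((LinearMap.fst R V W ∘ₗ φ ∘ₗ LinearMap.inl R V W) y.1,
            (LinearMap.snd R V W ∘ₗ φ ∘ₗ LinearMap.inr R V W) y.2) := by
          rintro ⟨a, b⟩
          have ha : (LinearMap.snd R V W ∘ₗ φ ∘ₗ LinearMap.inl R V W) = 0 := h1 _
          have hb : (LinearMap.fst R V W ∘ₗ φ ∘ₗ LinearMap.inr R V W) = 0 := h2 _
          have ha' : (φ (a, 0)).2 = 0 := LinearMap.congr_fun ha a
          have hb' : (φ (0, b)).1 = 0 := LinearMap.congr_fun hb b
          have : (a, b) = (a, 0) + ((0 : V), b) := by simp
          conv_lhs => rw [this, map_add]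
          exact Prod.ext (by simp [hb']) (by simp [ha'])
        set e : Module.End R V := LinearMap.fst R V W ∘ₗ φ ∘ₗ LinearMap.inl R V W with he
        have he' : ∀ v : V, ι (π (e v)) = e (ι (π v)) := by
          intro v
          have h3 : π (e v) = e * π v := map_smul (b.coord i₀) e v
          have h4 : ∀ y, ι y = (d * y) • b i₀ := fun y => rfl
          rw [h4, h4, h3, mul_left_comm]
          rfl
        simp only [RingHom.id_apply, Module.End.smul_def]
        rw [key x, key (ι (π x.1), 0)]
        exact Prod.ext (he' x.1) (by simp only [map_zero]) }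
  haveI : Finite W := Module.finite_of_finite k
  haveI : IsSimpleModule R (LinearMap.range (LinearMap.inl R V W)) :=
    IsSimpleModule.congr (LinearEquiv.ofInjective _ LinearMap.inl_injective).symm
  haveI : IsSimpleModule R (LinearMap.range (LinearMap.inr R V W)) :=
    IsSimpleModule.congr (LinearEquiv.ofInjective _ LinearMap.inr_injective).symm
  haveI : IsSemisimpleModule R (V × W) := by
    refine IsSemisimpleModule.of_sSup_simples_eq_top (top_unique ?_)
    rw [← LinearMap.sup_range_inl_inr]
    exact sup_le (le_sSup (by assumption)) (le_sSup (by assumption))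
  have := Fintype.ofFinite (V × W)
  obtain ⟨r, hr⟩ := jacobson_density F (Finset.univ : Finset (V × W))
  have hV : Algebra.lsmul k k V r = ι ∘ₗ π := LinearMap.ext fun v => by
    exact (congrArg Prod.fst (hr (v, 0) (Finset.mem_univ _))).symm
  have hW : Algebra.lsmul k k W r = 0 := LinearMap.ext fun w => by
    exact (congrArg Prod.snd (hr (0, w) (Finset.mem_univ _))).symm
  have h' := h r
  rw [hV, hW, map_zero, LinearMap.trace_comp_comm', hπι] at h'
  rw [Algebra.trace_apply] at hd
  exact one_ne_zero (hd.symm.trans h')

variable {k : Type*} [Field k] {G : Type*} [Group G] {V : Type*} [AddCommGroup V] [Module k V]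

/-- The invariant subspaces are trivial. -/
def IsIrred (σ : Representation k G V) : Prop :=
  Nontrivial V ∧ ∀ W : Submodule k V, (∀ g, ∀ w ∈ W, σ g w ∈ W) → W = ⊥ ∨ W = ⊤

theorem IsIrred.isSimpleModule {σ : Representation k G V} (hσ : IsIrred σ) :
    IsSimpleModule (MonoidAlgebra k G) σ.asModule := by
  haveI : Nontrivial σ.asModule := hσ.1
  refine { eq_bot_or_eq_top := fun S => ?_ }
  let W : Submodule k V :=
    { carrier := {v | σ.asModuleEquiv.symm v ∈ S}
      add_mem' := fun {a b} ha hb => by
        show σ.asModuleEquiv.symm (a + b) ∈ S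
        rw [map_add]; exact S.add_mem ha hb
      zero_mem' := by simp
      smul_mem' := fun c v hv => by
        show σ.asModuleEquiv.symm (c • v) ∈ S
        rw [Representation.asModuleEquiv_symm_map_smul]
        exact S.smul_mem _ hv }
  have hW : ∀ g, ∀ w ∈ W, σ g w ∈ W := fun g w hw => by
    show σ.asModuleEquiv.symm (σ g w) ∈ S
    rw [Representation.asModuleEquiv_symm_map_rho]
    exact S.smul_mem _ hw
  rcases hσ.2 W hW with h | h
  · left
    rw [Submodule.eq_bot_iff]
    intro x hx
    have : σ.asModuleEquiv x ∈ W := by simpa [W] using hx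
    rw [h, Submodule.mem_bot] at this
    exact σ.asModuleEquiv.map_eq_zero_iff.1 this
  · right
    rw [Submodule.eq_top_iff']
    intro x
    have : σ.asModuleEquiv x ∈ W := h ▸ Submodule.mem_top
    simpa [W] using this

variable [FiniteDimensional k V]

theorem IsIrred.dual {σ : Representation k G V} (hσ : IsIrred σ) : IsIrred σ.dual := by
  haveI := hσ.1
  refine ⟨inferInstance, fun W hW => ?_⟩
  rcases hσ.2 W.dualCoannihilator (fun g w hw => by
    rw [Submodule.mem_dualCoannihilator] at hw ⊢
    intro φ hφ
    have := hw _ (hW g⁻¹ φ hφ)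
    simpa [Representation.dual_apply, Module.Dual.transpose_apply] using this) with h | h
  · right
    rw [← Subspace.dualCoannihilator_dualAnnihilator_eq (W := W), h,
      Submodule.dualAnnihilator_bot]
  · left
    rw [← Subspace.dualCoannihilator_dualAnnihilator_eq (W := W), h,
      Submodule.dualAnnihilator_top]

/-- An irreducible module of an ambivalent group with a fixed functional of a subgroup has a fixed
vector of it. -/
theorem exists_fixed_of_fixed_functional [Finite k] {σ : Representation k G V} (hσ : IsIrred σ)
    (hamb : ∀ g : G, ∃ h, h * g * h⁻¹ = g⁻¹) {L : Set G} {l : Module.Dual k V} (hl : l ≠ 0)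
    (hfix : ∀ g ∈ L, ∀ v, l (σ g v) = l v) :
    ∃ v : V, v ≠ 0 ∧ ∀ g ∈ L, σ g v = v := by
  classical
  haveI := hσ.isSimpleModule
  haveI := hσ.dual.isSimpleModule
  haveI : FiniteDimensional k σ.asModule := inferInstanceAs (FiniteDimensional k V)
  haveI : FiniteDimensional k σ.dual.asModule :=
    inferInstanceAs (FiniteDimensional k (Module.Dual k V))
  have htr : ∀ r : MonoidAlgebra k G,
      LinearMap.trace k σ.asModule (Algebra.lsmul k k σ.asModule r) =
        LinearMap.trace k σ.dual.asModule (Algebra.lsmul k k σ.dual.asModule r) := by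
    intro r
    have h : ∀ g : G, LinearMap.trace k V (σ g) =
        LinearMap.trace k (Module.Dual k V) (σ.dual g) := by
      intro g
      obtain ⟨h, hh⟩ := hamb g
      rw [Representation.dual_apply, LinearMap.trace_transpose', ← hh, map_mul σ, map_mul σ,
        LinearMap.trace_mul_comm, ← mul_assoc, ← map_mul σ, inv_mul_cancel, map_one σ, one_mul]
    show LinearMap.trace k V (σ.asAlgebraHom r) =
      LinearMap.trace k (Module.Dual k V) (σ.dual.asAlgebraHom r)
    induction r using MonoidAlgebra.induction_linear with
    | zero => simp only [map_zero]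
    | add a b ha hb => simp only [map_add, ha, hb]
    | single g c => simp [h g]
  have hkey : ∀ {A B : Type _} [AddCommGroup A] [AddCommGroup B] [Module k A] [Module k B]
      (α : Representation k G A) (β : Representation k G B) (f : α.asModule →ₗ[MonoidAlgebra k G]
      β.asModule) (g : G) (a : A),
      β.asModuleEquiv (f (α.asModuleEquiv.symm (α g a))) =
        β g (β.asModuleEquiv (f (α.asModuleEquiv.symm a))) := by
    intro A B _ _ _ _ α β f g a
    rw [Representation.asModuleEquiv_symm_map_rho, map_smul,
      Representation.asModuleEquiv_map_smul]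
    simp
  have hdim : Module.finrank k σ.asModule = Module.finrank k σ.dual.asModule :=
    (Subspace.dual_finrank_eq (K := k) (V := V)).symm
  rcases exists_hom_of_trace_eq (k := k) (R := MonoidAlgebra k G) (V := σ.asModule)
      (W := σ.dual.asModule) htr with ⟨f, hf⟩ | ⟨f, hf⟩
  · have hinj : Function.Injective f := (LinearMap.injective_or_eq_zero
      (R := MonoidAlgebra k G) (M := σ.asModule) (N := σ.dual.asModule) f).resolve_right hf
    let fk : σ.asModule →ₗ[k] σ.dual.asModule :=
      { toFun := f
        map_add' := map_add f
        map_smul' := fun c x => LinearMap.map_smul_of_tower f c x }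
    have hsurj : Function.Surjective f :=
      (LinearMap.injective_iff_surjective_of_finrank_eq_finrank (K := k) (V := σ.asModule)
        (V₂ := σ.dual.asModule) hdim (f := fk)).1 hinj
    obtain ⟨x, hx⟩ := hsurj (σ.dual.asModuleEquiv.symm l)
    refine ⟨σ.asModuleEquiv x, ?_, fun g hg => ?_⟩
    · intro h0
      rw [σ.asModuleEquiv.map_eq_zero_iff.1 h0, map_zero] at hx
      exact hl (by simpa using congrArg σ.dual.asModuleEquiv hx.symm)
    · apply σ.asModuleEquiv.symm.injective
      apply hinj
      apply σ.dual.asModuleEquiv.injective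
      rw [hkey σ σ.dual f]
      simp only [LinearEquiv.symm_apply_apply, hx, LinearEquiv.apply_symm_apply]
      ext v
      rw [Representation.dual_apply]
      show l (σ g⁻¹ v) = l v
      conv_rhs => rw [show v = σ g (σ g⁻¹ v) by simp [← Module.End.mul_apply, ← map_mul], hfix g hg]
  · refine ⟨σ.asModuleEquiv (f (σ.dual.asModuleEquiv.symm l)), ?_, fun g hg => ?_⟩
    · intro h0
      have h1 := congrArg σ.dual.asModuleEquiv (((LinearMap.injective_or_eq_zero
        (R := MonoidAlgebra k G) (M := σ.dual.asModule) (N := σ.asModule) f).resolve_right hf)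
        ((σ.asModuleEquiv.map_eq_zero_iff.1 h0).trans (map_zero f).symm))
      exact hl (by simpa using h1)
    · have h2 : σ.asModuleEquiv (f (σ.dual.asModuleEquiv.symm (σ.dual g l))) =
          σ g (σ.asModuleEquiv (f (σ.dual.asModuleEquiv.symm l))) := by
        rw [Representation.asModuleEquiv_symm_map_rho, map_smul,
          Representation.asModuleEquiv_map_smul]
        simp
      rw [← h2]
      congr 3
      ext v
      rw [Representation.dual_apply]
      show l (σ g⁻¹ v) = l v
      conv_rhs => rw [show v = σ g (σ g⁻¹ v) by simp [← Module.End.mul_apply, ← map_mul], hfix g hg]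

end CfsgLib.SolvCentAlt
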