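import Cfsg.Agent.SolvCentAlt.TwoGens
import Cfsg.Agent.SolvCentAlt.TwoDataP2

/-!
# Verification of a certificate over two elements
-/

set_option autoImplicit false

namespace CfsgLib.SolvCentAlt.Two

theorem checkP2 :
    checkStage (killedSets.take 9) gensP2 repsP2 treeP2 termsP2 sizeP2 = true := by
  decide +kernel

end CfsgLib.SolvCentAlt.Two
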