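import Cfsg.Agent.SolvCentAlt.TwoCheckP13
import Cfsg.Agent.SolvCentAlt.TwoCheckP2
import Cfsg.Agent.SolvCentAlt.TwoCheckPa
import Cfsg.Agent.SolvCentAlt.TwoCheckPb
import Cfsg.Agent.SolvCentAlt.TwoCheckX

/-!
# Modules of the alternating group of degree nine over two elements

Every nonzero module has a nonzero vector fixed by a perfect Hurwitz pair.
-/

set_option autoImplicit false
set_option linter.style.haveILetI false

namespace CfsgLib.SolvCentAlt.Two

open Code

/-- The coded relations of a generating pair. -/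
def checkPair (x : Sw × Sw × ℕ) : Bool :=
  let a := swapsCode x.1
  let b := swapsCode x.2.1
  even x.1 && even x.2.1 && (x.2.2 == 5 || x.2.2 == 7) && (evalWord 9 [a] [0, 0] == one 9) &&
    (evalWord 9 [b] [0, 0, 0] == one 9) && (b != one 9) &&
    (evalWord 9 [comp 9 a b] (List.replicate x.2.2 0) == one 9)

theorem pow_eq_one_of_code {c : ℕ} {g : Equiv.Perm (Fin 9)} (hc : Rep c g) {k : ℕ}
    (h : evalWord 9 [c] (List.replicate k 0) = one 9) : g ^ k = 1 := by
  have h1 := rep_evalWord (m := 9) (by norm_num)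
    (List.Forall₂.cons hc List.Forall₂.nil) (List.replicate k 0)
  rw [h] at h1
  rw [show g ^ k = permWord [g] (List.replicate k 0) by
    clear h h1
    induction k with
    | zero => rfl
    | succ k ih => rw [pow_succ', List.replicate_succ, ih]; rfl]
  exact h1.unique (rep_one (by norm_num))

theorem basePairs_ok : basePairs.all checkPair = true := by decide +kernel

variable {V : Type*} [AddCommGroup V] [Module (ZMod 2) V] {σ : Representation (ZMod 2) A9 V}

theorem exists_fixed [Finite V] [Nontrivial V] :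
    ∃ (v : V) (a b : A9) (n : ℕ), v ≠ 0 ∧ (n = 5 ∨ n = 7) ∧ a ^ 2 = 1 ∧ b ^ 3 = 1 ∧ b ≠ 1 ∧
      (a * b) ^ n = 1 ∧ σ a v = v ∧ σ b v = v := by
  classical
  by_contra! hcon
  have hbase : ∀ x ∈ basePairs, Killed σ [x.1, x.2.1] := by
    intro x hx v hv
    have hok := List.all_eq_true.1 basePairs_ok x hx
    simp only [checkPair, Bool.and_eq_true, Bool.or_eq_true, beq_iff_eq, bne_iff_ne] at hok
    obtain ⟨⟨⟨⟨⟨⟨he1, he2⟩, hn⟩, ha⟩, hb⟩, hb1⟩, hab⟩ := hok
    have ra : Rep (swapsCode x.1) (el x.1 he1 : Equiv.Perm (Fin 9)) := rep_swaps (by norm_num) _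
    have rb : Rep (swapsCode x.2.1) (el x.2.1 he2 : Equiv.Perm (Fin 9)) := rep_swaps (by norm_num) _
    by_contra hv0
    refine hcon v (el x.1 he1) (el x.2.1 he2) x.2.2 hv0 hn
      (Subtype.ext (by rw [SubgroupClass.coe_pow]; exact pow_eq_one_of_code ra ha))
      (Subtype.ext (by rw [SubgroupClass.coe_pow]; exact pow_eq_one_of_code rb hb))
      (fun h => hb1 ?_)
      (Subtype.ext (by
        rw [SubgroupClass.coe_pow, Subgroup.coe_mul]
        exact pow_eq_one_of_code (ra.mul (by norm_num) rb) hab))
      (hv _ (by simp [el])) (hv _ (by simp [el]))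
    have h' : swaps x.2.1 = 1 := congrArg Subtype.val h
    rw [swapsCode, h']
    exact encode_congr 9 fun i hi => by simp [Nat.mod_eq_of_lt hi]
  set B : List (List Sw) := basePairs.map fun x => [x.1, x.2.1] with hB
  have hB' : ∀ gens ∈ B, Killed σ gens := by
    intro gens hg
    obtain ⟨x, hx, rfl⟩ := List.mem_map.1 hg
    exact hbase x hx
  have e8 : killedSets.take 8 = B := rfl
  have e9 : killedSets.take 9 = B ++ [gensP13] := rfl
  have e10 : killedSets.take 10 = B ++ [gensP13, gensP2] := rfl
  have e12 : killedSets.take 12 = B ++ [gensP13, gensP2, gensPa, gensPb] := rfl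
  have h13 : Killed σ gensP13 := killed_of_check (e8 ▸ hB') checkP13
  have h2 : Killed σ gensP2 := killed_of_check (e9 ▸ fun g hg => by
    rcases List.mem_append.1 hg with hg | hg
    · exact hB' g hg
    · simp only [List.mem_singleton] at hg; exact hg ▸ h13) checkP2
  have hK10 : ∀ gens ∈ killedSets.take 10, Killed σ gens := e10 ▸ fun g hg => by
    rcases List.mem_append.1 hg with hg | hg
    · exact hB' g hg
    · simp only [List.mem_cons, List.not_mem_nil, or_false] at hg
      rcases hg with rfl | rfl
      exacts [h13, h2]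
  have ha : Killed σ gensPa := killed_of_check hK10 checkPa
  have hb : Killed σ gensPb := killed_of_check hK10 checkPb
  have hX : Killed σ gensX := killed_of_check (e12 ▸ fun g hg => by
    rcases List.mem_append.1 hg with hg | hg
    · exact hB' g hg
    · simp only [List.mem_cons, List.not_mem_nil, or_false] at hg
      rcases hg with rfl | rfl | rfl | rfl
      exacts [h13, h2, ha, hb]) checkX
  -- a fixed vector of the two-group
  have hchk := checkX
  simp only [checkStage, Bool.and_eq_true, List.all_eq_true] at hchk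
  obtain ⟨⟨⟨⟨⟨⟨hT, hTe⟩, -⟩, -⟩, -⟩, -⟩, -⟩ := hchk
  have hspec := checkGroup_spec (m := 9) (by norm_num) (forall₂_codes gensX) hT
  set S := Subgroup.closure {g | g ∈ gensX.map (swaps (m := 9))} with hS
  have hSA : S ≤ alternatingGroup (Fin 9) := (Subgroup.closure_le _).2 fun g hg => by
    obtain ⟨a, ha, rfl⟩ := List.mem_map.1 hg
    exact mem_of_even (hTe a ha)
  have hcard : Nat.card S = 2 ^ 6 := by
    rw [hspec.2.2.2.2]
    decide +kernel
  have hpg : IsPGroup 2 S := IsPGroup.of_card hcard
  letI : MulAction S V :=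
    { smul := fun g v => σ (Subgroup.inclusion hSA g) v
      one_smul := fun v => by
        show σ (Subgroup.inclusion hSA 1) v = v
        rw [map_one, map_one]; rfl
      mul_smul := fun g h v => by
        show σ (Subgroup.inclusion hSA (g * h)) v = _
        rw [map_mul, act_mul]; rfl }
  have hdvd : 2 ∣ Nat.card V := by
    haveI : Fact (Nat.Prime 2) := ⟨Nat.prime_two⟩
    obtain ⟨v, hv⟩ := exists_ne (0 : V)
    have : addOrderOf v = 2 := addOrderOf_eq_prime
      (by rw [two_nsmul]; exact eq_zero_of_add_self) hv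
    exact this ▸ addOrderOf_dvd_natCard v
  haveI : Fact (Nat.Prime 2) := ⟨Nat.prime_two⟩
  obtain ⟨w, hw, hw0⟩ := hpg.exists_fixed_point_of_prime_dvd_card_of_fixed_point V hdvd
    (a := (0 : V)) (fun g => map_zero _)
  refine hw0 (hX w fun g hg => ?_).symm
  exact hw ⟨g, Subgroup.subset_closure hg⟩

end CfsgLib.SolvCentAlt.Two
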