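import Cfsg.Prelude.Def_LocalEven
import Cfsg.Agent.SolvCentAlt.Reduction
import Cfsg.Agent.SolvCentAlt.SelfDual
import Cfsg.Agent.SolvCentAlt.Ambivalent
import Cfsg.Agent.SolvCentAlt.Five
import Cfsg.Agent.SolvCentAlt.Two

/-!
# Alternating sections of groups with solvable centralizers of noncentral `p`-elements
-/

set_option autoImplicit false
set_option linter.style.haveILetI false

universe u

namespace CfsgLib.SolvCentAlt

/-- Relabelling of an even permutation on a subset. -/
def altExtend {α β : Type*} [Fintype α] [DecidableEq α] [Fintype β] [DecidableEq β]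
    {q : β → Prop} [DecidablePred q] (e : α ≃ Subtype q) :
    alternatingGroup α →* alternatingGroup β where
  toFun g := ⟨(g : Equiv.Perm α).extendDomain e, by
    rw [Equiv.Perm.mem_alternatingGroup, Equiv.Perm.sign_extendDomain,
      Equiv.Perm.mem_alternatingGroup.1 g.2]⟩
  map_one' := Subtype.ext (Equiv.Perm.extendDomain_one e)
  map_mul' a b := Subtype.ext (Equiv.Perm.extendDomain_mul e _ _).symm

theorem altExtend_injective {α β : Type*} [Fintype α] [DecidableEq α] [Fintype β]
    [DecidableEq β] {q : β → Prop} [DecidablePred q] (e : α ≃ Subtype q) :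
    Function.Injective (altExtend e) := fun a b h => by
  have h1 : (a : Equiv.Perm α).extendDomain e = (b : Equiv.Perm α).extendDomain e :=
    congrArg Subtype.val h
  exact Subtype.ext (Equiv.Perm.extendDomainHom_injective e h1)

theorem exists_alt_injective {n d : ℕ} (h : n ≤ d) :
    ∃ ι : alternatingGroup (Fin n) →* alternatingGroup (Fin d), Function.Injective ι := by
  let e : Fin n ≃ Subtype fun i : Fin d => (i : ℕ) < n :=
    { toFun := fun i => ⟨Fin.castLE h i, i.2⟩
      invFun := fun i => ⟨(i.1 : ℕ), i.2⟩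
      left_inv := fun i => rfl
      right_inv := fun i => rfl }
  exact ⟨altExtend e, altExtend_injective e⟩

theorem not_isSolvable_A5 : ¬ Group.IsSolvable (alternatingGroup (Fin 5)) := by
  intro h
  have h1 := Group.IsSolvable.commutator_lt_top_of_nontrivial (G := alternatingGroup (Fin 5))
  rw [commutator_alternatingGroup_eq_top (by simp)] at h1
  exact lt_irrefl _ h1

theorem not_isSolvable_range {A : Type*} [Group A] {f : alternatingGroup (Fin 5) →* A}
    (hf : Function.Injective f) : ¬ Group.IsSolvable f.range := fun h => by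
  haveI := h
  exact not_isSolvable_A5 (Group.isSolvable_of_isSolvable_injective (f := f.rangeRestrict)
    fun a b hab => hf (congrArg Subtype.val hab))

/-- A commuting pair. -/
theorem exists_commuting (m : ℕ) {x : Equiv.Perm (Fin m)}
    (hx : x ∈ alternatingGroup (Fin m)) (hx1 : x ≠ 1) {p : ℕ} (hxp : x ^ p = 1) :
    ∃ (y : alternatingGroup (Fin (5 + m))) (φ : alternatingGroup (Fin 5) →*
      alternatingGroup (Fin (5 + m))),
      Function.Injective φ ∧ y ≠ 1 ∧ y ^ p = 1 ∧ ∀ l ∈ φ.range, l * y = y * l := by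
  let e1 : Fin 5 ≃ Subtype fun i : Fin (5 + m) => (i : ℕ) < 5 :=
    { toFun := fun i => ⟨Fin.castAdd m i, i.2⟩
      invFun := fun i => ⟨(i.1 : ℕ), i.2⟩
      left_inv := fun i => rfl
      right_inv := fun i => rfl }
  let e2 : Fin m ≃ Subtype fun i : Fin (5 + m) => ¬ (i : ℕ) < 5 :=
    { toFun := fun i => ⟨Fin.natAdd 5 i, by simp [Fin.natAdd]⟩
      invFun := fun i => ⟨(i.1 : ℕ) - 5, by have h1 := i.2; have h2 := i.1.2; omega⟩
      left_inv := fun i => Fin.ext (by simp [Fin.natAdd])
      right_inv := fun i => Subtype.ext (Fin.ext (by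
        have h1 := i.2
        simp only [Fin.natAdd]
        omega)) }
  refine ⟨altExtend e2 ⟨x, hx⟩, altExtend e1, altExtend_injective e1, ?_, ?_, ?_⟩
  · intro h
    exact hx1 (congrArg Subtype.val (altExtend_injective e2 (h.trans (map_one _).symm)))
  · rw [← map_pow, show (⟨x, hx⟩ : alternatingGroup (Fin m)) ^ p = 1 from Subtype.ext (by simpa using hxp),
      map_one]
  · rintro _ ⟨g, rfl⟩
    apply Subtype.ext
    show (g : Equiv.Perm (Fin 5)).extendDomain e1 * x.extendDomain e2 =
      x.extendDomain e2 * (g : Equiv.Perm (Fin 5)).extendDomain e1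
    refine (Equiv.Perm.Disjoint.commute fun i => ?_).eq
    by_cases hi : (i : ℕ) < 5
    · exact Or.inr (Equiv.Perm.extendDomain_apply_not_subtype x e2 (not_not.2 hi))
    · exact Or.inl (Equiv.Perm.extendDomain_apply_not_subtype _ e1 hi)

theorem hasFixed_five : HasFixed.{u} 5 (alternatingGroup (Fin 10)) := by
  intro V _ _ _ _ σ hirr
  haveI : Fact (Nat.Prime 5) := ⟨by norm_num⟩
  haveI : FiniteDimensional (ZMod 5) V := Module.Finite.of_finite
  by_contra! hcon
  let b := Module.finBasis (ZMod 5) V
  let ρ : alternatingGroup (Fin 10) →*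
      GL (Fin (Module.finrank (ZMod 5) V)) (ZMod 5) :=
    ((LinearMap.toMatrixAlgEquiv b).toMonoidHom.comp σ).toHomUnits
  have hρ : ∀ g (v : Fin (Module.finrank (ZMod 5) V) → ZMod 5),
      (ρ g : Matrix _ _ (ZMod 5)).mulVec v = b.equivFun (σ g (b.equivFun.symm v)) := fun g v => by
    show (LinearMap.toMatrix b b (σ g)).mulVec v = _
    conv_lhs => rw [← b.equivFun.apply_symm_apply v]
    exact LinearMap.toMatrix_mulVec_repr b b (σ g) _
  refine (Module.finrank_pos (R := ZMod 5) (M := V)).ne' (Five.eq_zero ρ fun f hf => ⟨?_, ?_⟩)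
  · intro v hv
    by_contra hv0
    obtain ⟨g, ⟨l, rfl⟩, hne⟩ := hcon (b.equivFun.symm v)
      (fun h => hv0 (b.equivFun.symm.map_eq_zero_iff.1 h)) f.range (not_isSolvable_range hf)
    apply hne
    apply b.equivFun.injective
    rw [← hρ, hv l, LinearEquiv.apply_symm_apply]
  · intro lam hlam
    by_contra hlam0
    obtain ⟨v, hv0, hv⟩ := exists_fixed_of_fixed_functional (σ := σ) ⟨‹_›, hirr⟩
      Amb.exists_conj_inv (L := (f.range : Set (alternatingGroup (Fin 10))))
      (l := lam.comp b.equivFun.toLinearMap) (fun h => hlam0 (LinearMap.ext fun w => by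
        have := LinearMap.congr_fun h (b.equivFun.symm w)
        simpa only [LinearMap.comp_apply, LinearEquiv.coe_coe, LinearEquiv.apply_symm_apply,
          LinearMap.zero_apply] using this)) (by
        rintro _ ⟨l, rfl⟩ w
        have := hlam l (b.equivFun w)
        rw [hρ, LinearEquiv.symm_apply_apply] at this
        exact this)
    obtain ⟨g, hg, hne⟩ := hcon v hv0 f.range (not_isSolvable_range hf)
    exact hne (hv g hg)

theorem not_isSolvable_hurwitz {A : Type*} [Group A] {a b : A} {n : ℕ} (hn : n = 5 ∨ n = 7)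
    (ha : a ^ 2 = 1) (hb : b ^ 3 = 1) (hb1 : b ≠ 1) (hab : (a * b) ^ n = 1) :
    ¬ Group.IsSolvable (Subgroup.closure ({a, b} : Set A)) := by
  set K := Subgroup.closure ({a, b} : Set A) with hK
  intro hsol
  have haK : a ∈ K := Subgroup.subset_closure (Set.mem_insert _ _)
  have hbK : b ∈ K := Subgroup.subset_closure (Set.mem_insert_of_mem _ rfl)
  haveI : Nontrivial K := ⟨⟨b, hbK⟩, 1, fun h => hb1 (congrArg Subtype.val h)⟩
  refine (Group.IsSolvable.commutator_lt_top_of_nontrivial (G := K)).ne ?_
  set a' : Abelianization K := Abelianization.of ⟨a, haK⟩ with ha'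
  set b' : Abelianization K := Abelianization.of ⟨b, hbK⟩ with hb'
  have e1 : a' ^ 2 = 1 := by
    rw [ha', ← map_pow, show (⟨a, haK⟩ : K) ^ 2 = 1 from Subtype.ext (by simpa using ha), map_one]
  have e2 : b' ^ 3 = 1 := by
    rw [hb', ← map_pow, show (⟨b, hbK⟩ : K) ^ 3 = 1 from Subtype.ext (by simpa using hb), map_one]
  have e3 : a' ^ n * b' ^ n = 1 := by
    rw [← mul_pow, ha', hb', ← map_mul, ← map_pow,
      show ((⟨a, haK⟩ : K) * ⟨b, hbK⟩) ^ n = 1 from Subtype.ext (by simpa using hab), map_one]
  have ea : a' = 1 := by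
    have h := congrArg (· ^ 3) e3
    simp only [mul_pow, one_pow, ← pow_mul] at h
    rcases hn with rfl | rfl
    · rw [show 5 * 3 = 2 * 7 + 1 by norm_num] at h
      rw [show b' ^ (2 * 7 + 1) = (b' ^ 3) ^ 5 by rw [← pow_mul]] at h
      rw [e2, one_pow, mul_one, pow_succ, pow_mul, e1, one_pow, one_mul] at h
      exact h
    · rw [show 7 * 3 = 2 * 10 + 1 by norm_num] at h
      rw [show b' ^ (2 * 10 + 1) = (b' ^ 3) ^ 7 by rw [← pow_mul]] at h
      rw [e2, one_pow, mul_one, pow_succ, pow_mul, e1, one_pow, one_mul] at h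
      exact h
  have eb : b' = 1 := by
    rw [ea, one_pow, one_mul] at e3
    rcases hn with rfl | rfl
    · have : b' ^ Nat.gcd 3 5 = 1 := pow_gcd_eq_one.2 ⟨e2, e3⟩
      simpa using this
    · have : b' ^ Nat.gcd 3 7 = 1 := pow_gcd_eq_one.2 ⟨e2, e3⟩
      simpa using this
  have htop : (Abelianization.of (G := K)).ker = ⊤ := by
    rw [eq_top_iff, ← Subgroup.closure_closure_coe_preimage (k := ({a, b} : Set A)),
      Subgroup.closure_le]
    rintro ⟨x, hxK⟩ hx
    rcases (show x = a ∨ x = b from hx) with rfl | rfl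
    · exact ea
    · exact eb
  rw [← Abelianization.ker_of]
  exact htop

theorem hasFixed_two : HasFixed.{u} 2 (alternatingGroup (Fin 9)) := by
  intro V _ _ _ _ σ _
  obtain ⟨v, a, b, n, hv, hn, ha, hb, hb1, hab, hfa, hfb⟩ := Two.exists_fixed (σ := σ)
  refine ⟨v, hv, _, not_isSolvable_hurwitz hn ha hb hb1 hab, fun g hg => ?_⟩
  induction hg using Subgroup.closure_induction with
  | mem x hx =>
    rcases hx with rfl | rfl
    · exact hfa
    · exact hfb
  | one => rw [map_one]; rfl
  | mul x y _ _ hx hy => rw [map_mul, Module.End.mul_apply, hy, hx]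
  | inv x _ hx =>
    conv_lhs => rw [← hx]
    rw [← Module.End.mul_apply, ← map_mul, inv_mul_cancel, map_one]
    rfl

/-- The degree is too large. -/
theorem badElt_alt {X : Type u} [Group X] [Finite X] {p m : ℕ} [hp : Fact p.Prime] (hm : 4 ≤ m)
    {x : Equiv.Perm (Fin m)} (hx : x ∈ alternatingGroup (Fin m)) (hx1 : x ≠ 1) (hxp : x ^ p = 1)
    (hmod : ¬ (60 : ℕ).Coprime p → HasFixed.{u} p (alternatingGroup (Fin (5 + m))))
    {H : Subgroup X} (f : H →* alternatingGroup (Fin (5 + m))) (hf : Function.Surjective f) :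
    BadElt p X := by
  refine badElt_of_section f hf
    (commutator_alternatingGroup_eq_top (by simp)) ?_
  intro Y _ _ g hg _ hK
  have hcenter : Subgroup.center (alternatingGroup (Fin (5 + m))) = ⊥ :=
    alternatingGroup.center_eq_bot (by simp; omega)
  obtain ⟨y, φ, hφ, hy1, hyp, hcomm⟩ := exists_commuting m hx hx1 hxp
  by_cases hcop : (60 : ℕ).Coprime p
  · refine badElt_of_coprime hg hK hcenter hy1 hyp (not_isSolvable_range hφ) ?_ hcomm
    rw [← Nat.card_congr (MonoidHom.ofInjective hφ).toEquiv, nat_card_alternatingGroup]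
    norm_num [Nat.factorial]
    exact hcop
  · by_cases hKc : g.ker ≤ Subgroup.center Y
    · exact badElt_of_central hg hK hKc hcenter hy1 hyp (not_isSolvable_range hφ) hcomm
    · exact badElt_of_module hg hK hKc (hmod hcop)

theorem degree_le {G : Type u} [Group G] [Finite G] (p : ℕ) [hp : Fact p.Prime] (hp3 : p ≠ 3)
    (h : ∀ x : G, x ∉ Subgroup.center G → (∃ k : ℕ, orderOf x = p ^ k) →
      Group.IsSolvable (Subgroup.centralizer ({x} : Set G)))
    (d : ℕ) (hinv : Cfsg.Involves (alternatingGroup (Fin d)) G) :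
    d ≤ p + 4 + (if p = 2 then 2 else 0) := by
  by_contra! hd
  have hbad : BadElt p G := by
    obtain ⟨K, R, hR, ⟨e⟩⟩ := hinv
    have hsec : ∀ n ≤ d, ∃ (H : Subgroup G) (f : H →* alternatingGroup (Fin n)),
        Function.Surjective f := by
      intro n hn
      obtain ⟨ι, hι⟩ := exists_alt_injective hn
      let φ : K →* alternatingGroup (Fin d) := e.toMonoidHom.comp (QuotientGroup.mk' _)
      have hφ : Function.Surjective φ := e.surjective.comp (QuotientGroup.mk'_surjective _)
      let P := ι.range.comap φ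
      let f : (P.map K.subtype : Subgroup G) →* alternatingGroup (Fin n) :=
        ((MonoidHom.ofInjective hι).symm.toMonoidHom.comp (φ.subgroupComap ι.range)).comp
          (P.equivMapOfInjective _ (Subgroup.subtype_injective K)).symm.toMonoidHom
      exact ⟨P.map K.subtype, f, ((MonoidHom.ofInjective hι).symm.surjective.comp
        (MonoidHom.subgroupComap_surjective_of_surjective _ _ hφ)).comp (MulEquiv.surjective _)⟩
    rcases eq_or_ne p 2 with rfl | hp2
    · obtain ⟨H, f, hf⟩ := hsec (5 + 4) (by simp at hd; omega)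
      exact badElt_alt (m := 4) le_rfl (x := Equiv.swap 0 1 * Equiv.swap 2 3)
        (Equiv.Perm.mem_alternatingGroup.2 (by decide)) (by decide) (by decide) (fun _ => hasFixed_two) f hf
    · rw [if_neg hp2] at hd
      have h5 : 5 ≤ p := by
        have := hp.out.two_le
        have h4 : p ≠ 4 := fun h => by
          have := hp.out
          rw [h] at this
          norm_num at this
        omega
      obtain ⟨H, f, hf⟩ := hsec (5 + p) (by omega)
      obtain ⟨m, rfl⟩ : ∃ m, p = m + 2 := ⟨p - 2, by omega⟩
      have hodd : Even (m + 1) := by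
        rcases hp.out.eq_two_or_odd with h | h
        · omega
        · exact Nat.even_iff.2 (by omega)
      have hrot : finRotate (m + 2) ∈ alternatingGroup (Fin (m + 2)) := by
        rw [Equiv.Perm.mem_alternatingGroup, sign_finRotate, show m + 2 - 1 = m + 1 by omega, hodd.neg_one_pow]
      have hne : finRotate (m + 2) ≠ 1 := fun h => by
        have := congrArg Equiv.Perm.cycleType h
        rw [cycleType_finRotate, Equiv.Perm.cycleType_one] at this
        simp at this
      have hord : orderOf (finRotate (m + 2)) = m + 2 := by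
        rw [← Equiv.Perm.lcm_cycleType, cycleType_finRotate]
        simp
      refine badElt_alt (m := m + 2) (by omega) hrot hne
        (orderOf_dvd_iff_pow_eq_one.1 (dvd_of_eq hord)) (fun hcop => ?_) f hf
      have h5' : m + 2 = 5 := by
        have hdvd : m + 2 ∣ 60 := by
          by_contra hnd
          exact hcop ((hp.out.coprime_iff_not_dvd.2 hnd).symm)
        rw [show 60 = 4 * (3 * 5) by norm_num, hp.out.dvd_mul, hp.out.dvd_mul] at hdvd
        rcases hdvd with h | h | h
        · have := Nat.le_of_dvd (by norm_num) h; omega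
        · exact absurd ((Nat.prime_dvd_prime_iff_eq hp.out Nat.prime_three).1 h) hp3
        · exact (Nat.prime_dvd_prime_iff_eq hp.out Nat.prime_five).1 h
      obtain rfl : m = 3 := by omega
      exact hasFixed_five
  obtain ⟨y, hy, hk, hns⟩ := hbad
  exact hns (h y hy hk)

end CfsgLib.SolvCentAlt
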