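import Mathlib

/-!
# An inequality for representations of the alternating group of degree five in characteristic five

If such a representation has neither fixed vectors nor fixed functionals then
`n + 10 * dim C(A₄) ≤ 5 * dim C(⟨(012)⟩)`.
-/

set_option autoImplicit false

namespace CfsgLib.SolvCentAlt.AFive

abbrev L := alternatingGroup (Fin 5)

/-- An even permutation of five points. -/
def mk (g : Equiv.Perm (Fin 5)) (h : Equiv.Perm.sign g = 1 := by decide) : L :=
  ⟨g, Equiv.Perm.mem_alternatingGroup.2 h⟩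

def cc : L := mk (Equiv.swap 0 1 * Equiv.swap 1 2)
def yy : L := mk (Equiv.swap 0 1 * Equiv.swap 1 2 * Equiv.swap 2 3 * Equiv.swap 3 4)
def uu : L := mk (Equiv.swap 0 1 * Equiv.swap 2 3)
def vv : L := mk (Equiv.swap 0 2 * Equiv.swap 1 3)
def tt : L := mk (Equiv.swap 0 2 * Equiv.swap 3 4)

/-- The stabiliser of the last point. -/
def r : Fin 12 → L :=
  ![1, cc, cc * cc, uu, uu * cc, uu * (cc * cc), vv, vv * cc, vv * (cc * cc),
    uu * vv, uu * vv * cc, uu * vv * (cc * cc)]

theorem r_zero : r 0 = 1 := rfl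
theorem r_one : r 1 = cc := rfl

theorem coset_Y : ∀ g : L, ∃ k, (∃ i : Fin 5, g = r k * yy ^ (i : ℕ)) ∧
    ∀ k', (∃ i : Fin 5, g = r k' * yy ^ (i : ℕ)) → k' = k := by
  decide +kernel

theorem coset_A : ∀ g : L, ∃ k, g = yy ^ (((g : Equiv.Perm (Fin 5)) 4 : ℕ) + 1) * r k := by
  decide +kernel

theorem r_mul : ∀ j k, ∃ l, r j * r k = r l := by decide +kernel
theorem r_inj : Function.Injective r := by decide +kernel
theorem yy_eq : ∃ k l, yy = r k * tt * r l := by decide +kernel
theorem tt_cc : tt * cc = r 2 * tt := by decide +kernel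

theorem yy_pow_apply : ∀ i : Fin 5, ((yy ^ ((i : ℕ) + 1) : L) : Equiv.Perm (Fin 5)) 4 = i := by
  decide +kernel

theorem r_tt_apply : ∀ k, ((r k * tt : L) : Equiv.Perm (Fin 5)) 4 =
    (![3, 3, 3, 2, 2, 2, 1, 1, 1, 0, 0, 0] : Fin 12 → Fin 5) k := by
  decide +kernel

instance fact_five : Fact (Nat.Prime 5) := ⟨by norm_num⟩

variable {V : Type*} [AddCommGroup V] [Module (ZMod 5) V] (σ : Representation (ZMod 5) L V)

/-- The common fixed vectors of a set. -/
def fx (S : Set L) : Submodule (ZMod 5) V where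
  carrier := {v | ∀ s ∈ S, σ s v = v}
  add_mem' ha hb s hs := by rw [map_add, ha s hs, hb s hs]
  zero_mem' s _ := map_zero _
  smul_mem' c v hv s hs := by rw [map_smul, hv s hs]

variable {σ}

theorem mem_fx {S : Set L} {v : V} : v ∈ fx σ S ↔ ∀ s ∈ S, σ s v = v := Iff.rfl

theorem act_mul (g h : L) (v : V) : σ (g * h) v = σ g (σ h v) := by
  rw [map_mul]; rfl

theorem act_one (v : V) : σ 1 v = v := by rw [map_one]; rfl

theorem fixed_pow {g : L} {v : V} (h : σ g v = v) (i : ℕ) : σ (g ^ i) v = v := by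
  induction i with
  | zero => rw [pow_zero, act_one]
  | succ i ih => rw [pow_succ, act_mul, h, ih]

variable (σ) in
/-- The sum over the stabiliser. -/
def SA : V →ₗ[ZMod 5] V := ∑ k, σ (r k)

theorem SA_apply (v : V) : SA σ v = ∑ k, σ (r k) v := by simp [SA, LinearMap.sum_apply]

theorem r_SA (j : Fin 12) (v : V) : σ (r j) (SA σ v) = SA σ v := by
  choose m hm using r_mul
  rw [SA_apply, map_sum]
  refine Fintype.sum_bijective (m j) (Finite.injective_iff_bijective.1 fun a b hab => ?_) _ _
    fun k => by rw [← hm, act_mul]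
  exact r_inj (mul_left_cancel (a := r j) (by rw [hm, hm, hab]))

variable (σ) in
/-- The sum over `⟨(012)⟩`. -/
def TT : V →ₗ[ZMod 5] V := 1 + σ cc + σ (cc * cc)

theorem TT_apply (v : V) : TT σ v = v + σ cc v + σ (cc * cc) v := rfl

/-- The value of a group ring element. -/
def val (l : List (ZMod 5 × L)) (w : V) : V := (l.map fun x => x.1 • σ x.2 w).sum

/-- The coefficient of a group ring element at a coset of `⟨yy⟩`. -/
def coef (l : List (ZMod 5 × L)) (k : Fin 12) : ZMod 5 :=
  (l.map fun x => if ∃ i : Fin 5, x.2 = r k * yy ^ (i : ℕ) then x.1 else 0).sum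

theorem val_eq {w : V} (hw : σ yy w = w) (l : List (ZMod 5 × L)) :
    val (σ := σ) l w = ∑ k, coef l k • σ (r k) w := by
  induction l with
  | nil => simp [val, coef]
  | cons x l ih =>
    obtain ⟨k, ⟨i, hi⟩, huniq⟩ := coset_Y x.2
    have h1 : ∀ k', coef (x :: l) k' = (if k' = k then x.1 else 0) + coef l k' := by
      intro k'
      rw [coef, List.map_cons, List.sum_cons]
      congr 1
      by_cases hk : k' = k
      · subst hk; rw [if_pos ⟨i, hi⟩, if_pos rfl]
      · rw [if_neg hk, if_neg]; exact fun h => hk (huniq _ h)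
    simp only [h1, add_smul, Finset.sum_add_distrib, ← ih, ite_smul, zero_smul,
      Finset.sum_ite_eq', Finset.mem_univ, if_true]
    rw [show val (σ := σ) (x :: l) w = x.1 • σ x.2 w + val (σ := σ) l w from rfl, hi, act_mul,
      fixed_pow hw]

/-- A group ring element followed by `TT`. -/
def withT (l : List (ZMod 5 × L)) : List (ZMod 5 × L) :=
  l.flatMap fun x => [(x.1, x.2), (x.1, x.2 * cc), (x.1, x.2 * (cc * cc))]

theorem val_withT (l : List (ZMod 5 × L)) (w : V) :
    val (σ := σ) (withT l) w = val (σ := σ) l (TT σ w) := by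
  induction l with
  | nil => rfl
  | cons x l ih =>
    simp only [val, withT, List.flatMap_cons, List.map_append, List.sum_append, List.map_cons,
      List.sum_cons, List.map_nil, List.sum_nil, add_zero] at ih ⊢
    rw [ih, TT_apply, map_add, map_add, smul_add, smul_add, act_mul, act_mul]
    abel

/-- A left inverse of `TT` on the fixed vectors of `yy`. -/
def invT : List (ZMod 5 × L) :=
  [(2, r 0 * yy ^ 1), (4, r 0 * yy ^ 2), (1, r 2 * yy ^ 1), (4, r 6 * yy ^ 3), (2, r 5 * yy ^ 3),
    (3, r 7 * yy ^ 1), (2, r 7 * yy ^ 3), (1, r 8 * yy ^ 0), (3, r 4 * yy ^ 0)]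

/-- `SA`, followed by a given element. -/
def preA (g : L) : List (ZMod 5 × L) := List.ofFn fun k => ((1 : ZMod 5), r k * g)

theorem val_preA (g : L) (w : V) : val (σ := σ) (preA g) w = SA σ (σ g w) := by
  rw [val, preA, List.map_ofFn, List.sum_ofFn, SA_apply]
  simp

theorem coef_invT : ∀ k, coef (withT invT) k = if k = 0 then 1 else 0 := by decide +kernel
theorem coef_preA : ∀ k, coef (withT (preA 1)) k = 3 ∧ coef (withT (preA tt)) k = 3 := by
  decide +kernel

theorem eq_zero_of_two_smul {v : V} (h : (2 : ZMod 5) • v = 0) : v = 0 := by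
  simpa [smul_smul, show (3 : ZMod 5) * 2 = 1 by decide] using congrArg ((3 : ZMod 5) • ·) h

theorem SA_of_fixed {a : V} (ha : ∀ k, σ (r k) a = a) : SA σ a = (2 : ZMod 5) • a := by
  rw [SA_apply, Finset.sum_congr rfl fun k _ => ha k, Finset.sum_const, Finset.card_univ,
    Fintype.card_fin, ← Nat.cast_smul_eq_nsmul (ZMod 5)]
  rfl

theorem finrank_ker_mul_le [FiniteDimensional (ZMod 5) V] (f g : V →ₗ[ZMod 5] V) :
    Module.finrank (ZMod 5) (LinearMap.ker (f * g)) ≤
      Module.finrank (ZMod 5) (LinearMap.ker f) + Module.finrank (ZMod 5) (LinearMap.ker g) := by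
  set g' := g.domRestrict (LinearMap.ker (f * g)) with hg
  have h1 := g'.finrank_range_add_finrank_ker
  have h2 : Module.finrank (ZMod 5) (LinearMap.range g') ≤
      Module.finrank (ZMod 5) (LinearMap.ker f) := by
    refine Submodule.finrank_mono ?_
    rintro _ ⟨v, rfl⟩
    exact v.2
  have h3 : Module.finrank (ZMod 5) (LinearMap.ker g') ≤
      Module.finrank (ZMod 5) (LinearMap.ker g) := by
    refine LinearMap.finrank_le_finrank_of_injective
      (f := LinearMap.codRestrict _ ((LinearMap.ker (f * g)).subtype.comp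
        (LinearMap.ker g').subtype) fun v => v.2) ?_
    intro a b hab
    exact Subtype.ext (Subtype.ext (congrArg Subtype.val hab :))
  omega

theorem finrank_ker_pow_le [FiniteDimensional (ZMod 5) V] (f : V →ₗ[ZMod 5] V) (i : ℕ) :
    Module.finrank (ZMod 5) (LinearMap.ker (f ^ i)) ≤
      i * Module.finrank (ZMod 5) (LinearMap.ker f) := by
  induction i with
  | zero => simp [Module.End.one_eq_id]
  | succ i ih =>
    rw [pow_succ]
    refine (finrank_ker_mul_le _ _).trans ?_
    rw [Nat.succ_mul]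
    omega

theorem main [FiniteDimensional (ZMod 5) V] (hV : ∀ v : V, (∀ g, σ g v = v) → v = 0)
    (hV' : ∀ l : Module.Dual (ZMod 5) V, (∀ g v, l (σ g v) = l v) → l = 0) :
    Module.finrank (ZMod 5) V + 10 * Module.finrank (ZMod 5) (fx σ (Set.range r)) ≤
      5 * Module.finrank (ZMod 5) (fx σ {cc}) := by
  set CA := fx σ (Set.range r) with hCA
  set CC := fx σ {cc} with hCC
  set Y := fx σ {yy} with hY
  have hYw : ∀ w ∈ Y, σ yy w = w := fun w hw => hw yy rfl
  have hAa : ∀ a ∈ CA, ∀ k, σ (r k) a = a := fun a ha k => ha _ ⟨k, rfl⟩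
  -- dimension of the fixed space of an element of order five
  have hy : Module.finrank (ZMod 5) V ≤ 5 * Module.finrank (ZMod 5) Y := by
    by_cases hn : Nontrivial V
    · haveI : CharP (V →ₗ[ZMod 5] V) 5 := charP_of_injective_algebraMap' (ZMod 5) 5
      have h5 : (σ yy - 1) ^ 5 = 0 := by
        rw [sub_pow_expChar_of_commute (p := 5) (Commute.one_right (σ yy)), one_pow, ← map_pow,
          show yy ^ 5 = 1 by decide +kernel, map_one, sub_self]
      have hk : LinearMap.ker (σ yy - 1) = Y := by
        ext v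
        simp [hY, mem_fx, sub_eq_zero]
      have := finrank_ker_pow_le (σ yy - 1) 5
      rw [h5, LinearMap.ker_zero, finrank_top, hk] at this
      exact this
    · rw [not_nontrivial_iff_subsingleton] at hn
      rw [Module.finrank_zero_of_subsingleton]
      exact Nat.zero_le _
  -- the sum over the stabiliser kills the fixed vectors of `yy`
  have hSAY : ∀ w ∈ Y, SA σ w = 0 := by
    intro w hw
    apply hV
    intro g
    choose m i hm using fun k => (coset_Y (g * r k)).imp fun _ h => h.1
    rw [SA_apply, map_sum]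
    refine Fintype.sum_bijective m (Finite.injective_iff_bijective.1 fun a b hab => ?_) _ _
      fun k => by rw [← act_mul, hm k, act_mul, fixed_pow (hYw w hw)]
    have hb : g * r b * (yy ^ (i b : ℕ))⁻¹ = g * r a * (yy ^ (i a : ℕ))⁻¹ := by
      rw [hm a, hm b, mul_inv_cancel_right, mul_inv_cancel_right, hab]
    have hpow : ∃ j : Fin 5, (yy ^ (i b : ℕ))⁻¹ * yy ^ (i a : ℕ) = yy ^ (j : ℕ) :=
      (by decide +kernel : ∀ x y : Fin 5, ∃ j : Fin 5,
        (yy ^ (y : ℕ))⁻¹ * yy ^ (x : ℕ) = yy ^ (j : ℕ)) _ _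
    obtain ⟨j, hj⟩ := hpow
    obtain ⟨k, -, hk⟩ := coset_Y (r a)
    have ha' : r a = r b * yy ^ (j : ℕ) := by
      apply mul_left_cancel (a := g)
      rw [← hj, ← mul_assoc, ← mul_assoc, hb, inv_mul_cancel_right]
    exact (hk a ⟨0, by simp⟩).trans (hk b ⟨j, ha'⟩).symm
  have hSAT : ∀ w ∈ Y, SA σ (TT σ w) = 0 ∧ SA σ (σ tt (TT σ w)) = 0 := by
    intro w hw
    have h : ∀ g, (∀ k, coef (withT (preA g)) k = 3) → SA σ (σ g (TT σ w)) = 0 := by
      intro g hg
      rw [← val_preA, ← val_withT, val_eq (hYw w hw)]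
      simp only [hg, ← Finset.smul_sum, ← SA_apply, hSAY w hw, smul_zero]
    exact ⟨by simpa [act_one] using h 1 fun k => (coef_preA k).1, h tt fun k => (coef_preA k).2⟩
  have hTinj : ∀ w ∈ Y, TT σ w = 0 → w = 0 := by
    intro w hw h
    have := (val_withT (σ := σ) invT w).symm.trans (val_eq (hYw w hw) _)
    rw [h] at this
    simpa [coef_invT, r_zero, act_one, val] using this.symm
  have hTC : ∀ w, TT σ w ∈ CC := by
    rintro w s rfl
    rw [TT_apply, map_add, map_add, ← act_mul, ← act_mul,
      show cc * (cc * cc) = 1 by decide +kernel, act_one]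
    abel
  have hCAC : ∀ a ∈ CA, a ∈ CC := by
    rintro a ha s rfl
    rw [← r_one]
    exact hAa a ha 1
  -- the five translates of a fixed vector of the stabiliser
  have hSAt : ∀ a ∈ CA, SA σ (σ tt a) = (2 : ZMod 5) • a := by
    intro a ha
    let f : Fin 5 → V := fun i => σ (yy ^ ((i : ℕ) + 1)) a
    have hf : ∀ g : L, σ g a = f ((g : Equiv.Perm (Fin 5)) 4) := by
      intro g
      obtain ⟨k, hk⟩ := coset_A g
      conv_lhs => rw [hk]
      rw [act_mul, hAa a ha k]
    have hsum : ∑ i, f i = 0 := by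
      apply hV
      intro g
      rw [map_sum]
      refine Fintype.sum_equiv (g : Equiv.Perm (Fin 5)) _ _ fun i => ?_
      simp only [f]
      rw [← act_mul, hf, Subgroup.coe_mul, Equiv.Perm.mul_apply, yy_pow_apply]
    have h4 : f 4 = a := by
      simp only [f]
      rw [show yy ^ (((4 : Fin 5) : ℕ) + 1) = 1 by decide +kernel, act_one]
    rw [SA_apply, Finset.sum_congr rfl fun k _ =>
      (show σ (r k) (σ tt a) = f ((![3, 3, 3, 2, 2, 2, 1, 1, 1, 0, 0, 0] : Fin 12 → Fin 5) k) by
        rw [← act_mul, hf, r_tt_apply])]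
    simp only [Fin.sum_univ_succ, Finset.univ_unique, Fin.default_eq_zero, Finset.sum_singleton,
      Matrix.cons_val_zero, Matrix.cons_val_succ, Matrix.cons_val_fin_one] at hsum ⊢
    simp only [Fin.reduceSucc] at hsum
    rw [h4] at hsum
    have : f 0 + f 1 + f 2 + f 3 = -a := by rw [eq_neg_iff_add_eq_zero, ← hsum]; abel
    calc _ = (3 : ℕ) • (f 0 + f 1 + f 2 + f 3) := by abel
      _ = _ := by
        rw [this, ← Nat.cast_smul_eq_nsmul (ZMod 5), smul_neg, ← neg_smul]
        rfl
  -- the image inside the fixed space of `cc`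
  let Ψ : (CA × Y) →ₗ[ZMod 5] CC :=
    LinearMap.codRestrict CC (CA.subtype.coprod ((TT σ).comp Y.subtype))
      fun x => add_mem (hCAC _ x.1.2) (hTC _)
  have hΨ : Function.Injective Ψ := by
    rw [← LinearMap.ker_eq_bot, Submodule.eq_bot_iff]
    rintro ⟨⟨a, ha⟩, ⟨w, hw⟩⟩ h
    have h' : a + TT σ w = 0 := congrArg Subtype.val (LinearMap.mem_ker.1 h)
    have h2 := congrArg (SA σ) h'
    rw [map_add, (hSAT w hw).1, add_zero, map_zero, SA_of_fixed (hAa a ha)] at h2
    obtain rfl := eq_zero_of_two_smul h2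
    rw [zero_add] at h'
    obtain rfl := hTinj w hw h'
    rfl
  -- fixed functionals
  let U : Submodule (ZMod 5) (Module.Dual (ZMod 5) V) :=
    { carrier := {l | ∀ k v, l (σ (r k) v) = l v}
      add_mem' := fun ha hb k v => by simp only [LinearMap.add_apply, ha k v, hb k v]
      zero_mem' := fun _ _ => rfl
      smul_mem' := fun c l hl k v => by simp only [LinearMap.smul_apply, hl k v] }
  let D : U →ₗ[ZMod 5] Module.Dual (ZMod 5) CC :=
    CC.subtype.dualMap.comp ((LinearMap.id - (σ tt).dualMap).comp U.subtype)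
  have hD : Function.Injective D := by
    rw [← LinearMap.ker_eq_bot, Submodule.eq_bot_iff]
    rintro ⟨l, hl⟩ h
    have hl' : ∀ k v, l (σ (r k) v) = l v := hl
    have hzero : ∀ v ∈ CC, l v - l (σ tt v) = 0 := fun v hv =>
      congrArg (fun φ => φ ⟨v, hv⟩) (LinearMap.mem_ker.1 h)
    have hc : ∀ v, l (σ cc v) - l (σ tt (σ cc v)) = l v - l (σ tt v) := fun v => by
      rw [← r_one, hl', r_one, ← act_mul, tt_cc, act_mul, hl']
    have hall : ∀ v, l (σ tt v) = l v := by
      intro v
      have h3 := hzero _ (hTC v)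
      rw [TT_apply, map_add, map_add, map_add, map_add, map_add, map_add] at h3
      have h4 : (l v - l (σ tt v)) + (l (σ cc v) - l (σ tt (σ cc v))) +
          (l (σ (cc * cc) v) - l (σ tt (σ (cc * cc) v))) = 0 := by rw [← h3]; abel
      rw [act_mul cc cc, hc (σ cc v), hc v] at h4
      have h5 : (3 : ZMod 5) * (l v - l (σ tt v)) = 0 := by rw [← h4]; ring
      exact (sub_eq_zero.1 ((mul_eq_zero.1 h5).resolve_left (by decide))).symm
    have : l = 0 := by
      obtain ⟨p, q, hpq⟩ := yy_eq
      have hy' : ∀ v, l (σ yy v) = l v := fun v => by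
        rw [hpq, act_mul, act_mul, hl', hall, hl']
      refine hV' l fun g => ?_
      obtain ⟨k, ⟨i, rfl⟩, -⟩ := coset_Y g
      intro v
      rw [act_mul, hl']
      clear h
      induction (i : ℕ) with
      | zero => rw [pow_zero, act_one]
      | succ m ih => rw [pow_succ', act_mul, hy', ih]
    exact Subtype.ext this
  have hDrange : LinearMap.range D ≤ (LinearMap.range Ψ).dualAnnihilator := by
    rintro _ ⟨⟨l, hl⟩, rfl⟩
    rw [Submodule.mem_dualAnnihilator]
    rintro _ ⟨⟨⟨a, ha⟩, ⟨w, hw⟩⟩, rfl⟩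
    have hl' : ∀ k v, l (σ (r k) v) = l v := hl
    have hlS : ∀ v, l (SA σ v) = (2 : ZMod 5) * l v := fun v => by
      rw [SA_apply, map_sum, Finset.sum_congr rfl fun k _ => hl' k v, Finset.sum_const,
        Finset.card_univ, Fintype.card_fin, nsmul_eq_mul]
      rfl
    have hz : ∀ v, SA σ v = 0 → l v = 0 := fun v hv => by
      have := hlS v
      rw [hv, map_zero] at this
      exact (mul_eq_zero.1 this.symm).resolve_left (by decide)
    show l (a + TT σ w) - l (σ tt (a + TT σ w)) = 0
    have h1 : l (σ tt a) = l a := by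
      have := hlS (σ tt a)
      rw [hSAt a ha, map_smul, smul_eq_mul] at this
      exact (mul_left_cancel₀ (by decide) this).symm
    rw [map_add, map_add, map_add, h1, hz _ (hSAT w hw).1, hz _ (hSAT w hw).2]
    ring
  let E : Module.Dual (ZMod 5) CA →ₗ[ZMod 5] U :=
    LinearMap.codRestrict U
      ((LinearMap.codRestrict CA (SA σ) fun v => by
        rintro _ ⟨k, rfl⟩; exact r_SA k v).dualMap) fun m k v => by
      simp only [LinearMap.dualMap_apply]
      congr 1
      refine Subtype.ext ?_
      show SA σ (σ (r k) v) = SA σ v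
      rw [SA_apply, SA_apply]
      choose q hq using r_mul
      refine Fintype.sum_bijective (fun j => q j k)
        (Finite.injective_iff_bijective.1 fun a b hab => ?_) _ _ fun j => by rw [← hq, act_mul]
      exact r_inj (mul_right_cancel (b := r k) (by rw [hq, hq]; exact congrArg r hab))
  have hE : Function.Injective E := by
    rw [← LinearMap.ker_eq_bot, Submodule.eq_bot_iff]
    intro m hm
    apply LinearMap.ext
    intro a
    have h1 : m _ = 0 := congrArg (fun φ : U => (φ : Module.Dual (ZMod 5) V) a.1)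
      (LinearMap.mem_ker.1 hm)
    have h2 : m ((2 : ZMod 5) • a) = 0 := by
      rw [← h1]
      exact congrArg m (Subtype.ext (SA_of_fixed (hAa _ a.2)).symm)
    rw [map_smul] at h2
    exact (mul_eq_zero.1 h2).resolve_left (by decide)
  have h1 : Module.finrank (ZMod 5) CA + Module.finrank (ZMod 5) Y =
      Module.finrank (ZMod 5) (LinearMap.range Ψ) := by
    rw [LinearMap.finrank_range_of_inj hΨ, Module.finrank_prod]
  have h2 : Module.finrank (ZMod 5) CA ≤
      Module.finrank (ZMod 5) (LinearMap.range Ψ).dualAnnihilator :=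
    calc _ = Module.finrank (ZMod 5) (Module.Dual (ZMod 5) CA) := Subspace.dual_finrank_eq.symm
      _ ≤ Module.finrank (ZMod 5) U := LinearMap.finrank_le_finrank_of_injective hE
      _ = Module.finrank (ZMod 5) (LinearMap.range D) := (LinearMap.finrank_range_of_inj hD).symm
      _ ≤ _ := Submodule.finrank_mono hDrange
  have h3 := Subspace.finrank_add_finrank_dualAnnihilator_eq (LinearMap.range Ψ)
  omega

end CfsgLib.SolvCentAlt.AFive
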