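import Mathlib

/-!
# Permutations of small degree coded by natural numbers
-/

set_option autoImplicit false

namespace CfsgLib.SolvCentAlt.Code

/-- The image of `i` under the coded map. -/
def app (c i : ℕ) : ℕ := c / 16 ^ i % 16

/-- The code of a map. -/
def encode : ℕ → (ℕ → ℕ) → ℕ
  | 0, _ => 0
  | m + 1, f => f 0 % 16 + 16 * encode m fun i => f (i + 1)

/-- The code of a composition. -/
def comp (m a b : ℕ) : ℕ := encode m fun i => app a (app b i)

/-- The code of the identity. -/
def one (m : ℕ) : ℕ := encode m id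

theorem app_encode : ∀ (m : ℕ) (f : ℕ → ℕ) (i : ℕ), i < m → app (encode m f) i = f i % 16 := by
  intro m
  induction m with
  | zero => intro f i hi; exact absurd hi (by omega)
  | succ m ih =>
    intro f i hi
    cases i with
    | zero => simp [app, encode, Nat.add_mul_mod_self_left]
    | succ i =>
      have := ih (fun j => f (j + 1)) i (by omega)
      rw [app] at this
      rw [app, encode, pow_succ', ← Nat.div_div_eq_div_mul,
        Nat.add_mul_div_left _ _ (by norm_num : 0 < 16), Nat.div_eq_of_lt (Nat.mod_lt _ (by norm_num)),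
        zero_add, this]

theorem encode_congr : ∀ (m : ℕ) {f g : ℕ → ℕ}, (∀ i < m, f i = g i) →
    encode m f = encode m g := by
  intro m
  induction m with
  | zero => intros; rfl
  | succ m ih =>
    intro f g h
    rw [encode, encode, h 0 (by omega), ih fun i hi => h (i + 1) (by omega)]

variable {m : ℕ}

/-- The code represents the permutation. -/
def Rep (c : ℕ) (g : Equiv.Perm (Fin m)) : Prop := ∀ i : Fin m, app c i = g i

theorem Rep.mul (hm : m ≤ 16) {a b : ℕ} {g h : Equiv.Perm (Fin m)} (ha : Rep a g)
    (hb : Rep b h) : Rep (comp m a b) (g * h) := fun i => by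
  rw [comp, app_encode m _ i i.2, hb i, ha (h i), Equiv.Perm.mul_apply, Nat.mod_eq_of_lt]
  exact lt_of_lt_of_le (g (h i)).2 hm

theorem rep_one (hm : m ≤ 16) : Rep (one m) (1 : Equiv.Perm (Fin m)) := fun i => by
  rw [one, app_encode m _ i i.2]
  exact Nat.mod_eq_of_lt (lt_of_lt_of_le i.2 hm)

theorem Rep.unique {c : ℕ} {g h : Equiv.Perm (Fin m)} (hg : Rep c g) (hh : Rep c h) : g = h :=
  Equiv.ext fun i => Fin.ext ((hg i).symm.trans (hh i))

/-- The code of a word. -/
def evalWord (m : ℕ) (gs : List ℕ) (w : List ℕ) : ℕ :=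
  w.foldr (fun i c => comp m (gs.getD i (one m)) c) (one m)

/-- The permutation of a word. -/
def permWord (ps : List (Equiv.Perm (Fin m))) (w : List ℕ) : Equiv.Perm (Fin m) :=
  w.foldr (fun i g => ps.getD i 1 * g) 1

theorem rep_getD (hm : m ≤ 16) {gs : List ℕ} {ps : List (Equiv.Perm (Fin m))}
    (h : List.Forall₂ Rep gs ps) (i : ℕ) : Rep (gs.getD i (one m)) (ps.getD i 1) := by
  induction h generalizing i with
  | nil => simpa using rep_one hm
  | cons hab _ ih =>
    cases i with
    | zero => simpa using hab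
    | succ i => simpa using ih i

theorem rep_evalWord (hm : m ≤ 16) {gs : List ℕ} {ps : List (Equiv.Perm (Fin m))}
    (h : List.Forall₂ Rep gs ps) (w : List ℕ) : Rep (evalWord m gs w) (permWord ps w) := by
  induction w with
  | nil => exact rep_one hm
  | cons i w ih => exact (rep_getD hm h i).mul hm ih

theorem permWord_mem {ps : List (Equiv.Perm (Fin m))} {K : Subgroup (Equiv.Perm (Fin m))}
    (h : ∀ g ∈ ps, g ∈ K) (w : List ℕ) : permWord ps w ∈ K := by
  induction w with
  | nil => exact K.one_mem
  | cons i w ih =>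
    refine K.mul_mem ?_ ih
    rw [List.getD_eq_getElem?_getD]
    rcases hi : ps[i]? with - | g
    · exact K.one_mem
    · exact h g (List.mem_of_getElem? hi)

/-- A product of transpositions. -/
def swaps (l : List (Fin m × Fin m)) : Equiv.Perm (Fin m) :=
  (l.map fun x => Equiv.swap x.1 x.2).prod

/-- The code of a product of transpositions. -/
def swapsCode [NeZero m] (l : List (Fin m × Fin m)) : ℕ :=
  encode m fun i => (swaps l (Fin.ofNat m i) : ℕ)

theorem rep_swaps [NeZero m] (hm : m ≤ 16) (l : List (Fin m × Fin m)) :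
    Rep (swapsCode l) (swaps l) := fun i => by
  have h : Fin.ofNat m (i : ℕ) = i := Fin.ext (Nat.mod_eq_of_lt i.2)
  rw [swapsCode, app_encode m _ i i.2, h]
  exact Nat.mod_eq_of_lt (lt_of_lt_of_le (swaps l i).2 hm)

theorem sign_swaps {l : List (Fin m × Fin m)} (h : ∀ x ∈ l, x.1 ≠ x.2) :
    Equiv.Perm.sign (swaps l) = (-1) ^ l.length := by
  induction l with
  | nil => simp [swaps]
  | cons x l ih =>
    rw [swaps, List.map_cons, List.prod_cons, map_mul, ← swaps,
      ih fun y hy => h y (List.mem_cons_of_mem _ hy),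
      Equiv.Perm.sign_swap (h x List.mem_cons_self), List.length_cons, pow_succ']

theorem swaps_mem_alternatingGroup {l : List (Fin m × Fin m)}
    (h : ∀ x ∈ l, x.1 ≠ x.2) (he : l.length % 2 = 0) :
    swaps l ∈ alternatingGroup (Fin m) := by
  rw [Equiv.Perm.mem_alternatingGroup, sign_swaps h, (Nat.even_iff.2 he).neg_one_pow]

/-- Two codes of mutually inverse permutations. -/
def isPerm (m x y : ℕ) : Bool :=
  (List.range m).all fun i =>
    decide (app x i < m) && decide (app y i < m) && (app y (app x i) == i) && (app x (app y i) == i)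

theorem exists_rep_of_isPerm {x y : ℕ} (h : isPerm m x y = true) :
    ∃ g : Equiv.Perm (Fin m), Rep x g := by
  simp only [isPerm, List.all_eq_true, List.mem_range, Bool.and_eq_true, decide_eq_true_eq,
    beq_iff_eq] at h
  exact ⟨⟨fun i => ⟨app x i, (h i i.2).1.1.1⟩, fun i => ⟨app y i, (h i i.2).1.1.2⟩,
    fun i => Fin.ext (h i i.2).1.2, fun i => Fin.ext (h i i.2).2⟩, fun i => rfl⟩

end CfsgLib.SolvCentAlt.Code
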