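import Cfsg.Agent.SolvCentAlt.Code

/-!
# Verified enumeration of small permutation groups
-/

set_option autoImplicit false

namespace CfsgLib.SolvCentAlt.Code

/-- A search tree keyed by codes, with a word in the generators and some more data at each node. -/
inductive PTree (α : Type) where
  | leaf : PTree α
  | node : PTree α → ℕ → List ℕ → α → PTree α → PTree α

variable {α : Type}

/-- The nodes in order. -/
def PTree.toList : PTree α → List (ℕ × List ℕ × α)
  | .leaf => []
  | .node l c w a r => l.toList ++ (c, w, a) :: r.toList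

/-- Membership. -/
def PTree.has : PTree α → ℕ → Bool
  | .leaf, _ => false
  | .node l c _ _ r, x => if x < c then l.has x else if c < x then r.has x else true

theorem PTree.exists_of_has : ∀ {t : PTree α} {x : ℕ}, t.has x = true →
    ∃ y ∈ t.toList, y.1 = x := by
  intro t
  induction t with
  | leaf => intro x h; simp [PTree.has] at h
  | node l c w a r ihl ihr =>
    intro x h
    rw [PTree.has] at h
    rcases lt_trichotomy x c with h1 | h1 | h1
    · rw [if_pos h1] at h
      obtain ⟨y, hy, hyx⟩ := ihl h
      exact ⟨y, by simp [PTree.toList, hy], hyx⟩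
    · exact ⟨(c, w, a), by simp [PTree.toList], h1.symm⟩
    · rw [if_neg (by omega), if_pos h1] at h
      obtain ⟨y, hy, hyx⟩ := ihr h
      exact ⟨y, by simp [PTree.toList, hy], hyx⟩

/-- Strictly increasing keys. -/
def sorted : List (ℕ × List ℕ × α) → Bool
  | [] => true
  | [_] => true
  | x :: y :: l => decide (x.1 < y.1) && sorted (y :: l)

theorem pairwise_of_sorted : ∀ {l : List (ℕ × List ℕ × α)}, sorted l = true →
    (l.map Prod.fst).Pairwise (· < ·) := by
  intro l
  induction l with
  | nil => simp
  | cons x l ih =>
    cases l with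
    | nil => simp
    | cons y l =>
      intro h
      simp only [sorted, Bool.and_eq_true, decide_eq_true_eq] at h
      have hp := ih h.2
      rw [List.map_cons, List.pairwise_cons]
      refine ⟨fun z hz => ?_, hp⟩
      rw [List.map_cons, List.mem_cons] at hz
      rw [List.map_cons, List.pairwise_cons] at hp
      rcases hz with rfl | hz
      · exact h.1
      · exact h.1.trans (hp.1 z hz)

variable {m : ℕ}

/-- The tree enumerates the group generated by the coded generators. -/
def checkGroup (m : ℕ) (gs : List ℕ) (t : PTree α) : Bool :=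
  t.has (one m) && sorted t.toList &&
    t.toList.all fun x => (evalWord m gs x.2.1 == x.1) && gs.all fun g => t.has (comp m g x.1)

/-- The permutation at a node. -/
def nodePerm (ps : List (Equiv.Perm (Fin m))) (x : ℕ × List ℕ × α) : Equiv.Perm (Fin m) :=
  permWord ps x.2.1

theorem checkGroup_spec (hm : m ≤ 16) {gs : List ℕ} {ps : List (Equiv.Perm (Fin m))} {t : PTree α}
    (hrep : List.Forall₂ Rep gs ps) (h : checkGroup m gs t = true) :
    (∀ x ∈ t.toList, Rep x.1 (nodePerm ps x)) ∧
    (∀ g, g ∈ Subgroup.closure {g | g ∈ ps} ↔ g ∈ t.toList.map (nodePerm ps)) ∧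
    (t.toList.map (nodePerm ps)).Nodup ∧
    (∀ (g : Equiv.Perm (Fin m)) (c : ℕ), Rep c g → t.has c = true →
      g ∈ Subgroup.closure {g | g ∈ ps}) ∧
    Nat.card (Subgroup.closure {g | g ∈ ps}) = t.toList.length := by
  simp only [checkGroup, Bool.and_eq_true, List.all_eq_true, beq_iff_eq] at h
  obtain ⟨⟨h1, hs⟩, hall⟩ := h
  have hr : ∀ x ∈ t.toList, Rep x.1 (nodePerm ps x) := fun x hx => by
    conv => arg 1; rw [← (hall x hx).1]
    exact rep_evalWord hm hrep _
  have hsound : ∀ (g : Equiv.Perm (Fin m)) (c : ℕ), Rep c g → t.has c = true →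
      g ∈ t.toList.map (nodePerm ps) := by
    intro g c hc hhas
    obtain ⟨x, hx, rfl⟩ := PTree.exists_of_has hhas
    exact List.mem_map.2 ⟨x, hx, (hr x hx).unique hc⟩
  have hmul : ∀ g ∈ ps, ∀ a ∈ t.toList.map (nodePerm ps), g * a ∈ t.toList.map (nodePerm ps) := by
    intro g hg a ha
    obtain ⟨x, hx, rfl⟩ := List.mem_map.1 ha
    obtain ⟨c, hc, hcg⟩ : ∃ c ∈ gs, Rep c g := by
      clear hr hsound h1 hall ha
      induction hrep with
      | nil => exact absurd hg List.not_mem_nil
      | cons hab _ ih =>
        rcases List.mem_cons.1 hg with rfl | hg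
        · exact ⟨_, List.mem_cons_self, hab⟩
        · obtain ⟨c, hc, hcg⟩ := ih hg
          exact ⟨c, List.mem_cons_of_mem _ hc, hcg⟩
    exact hsound _ _ (hcg.mul hm (hr x hx)) ((hall x hx).2 c hc)
  have hone : (1 : Equiv.Perm (Fin m)) ∈ t.toList.map (nodePerm ps) :=
    hsound _ _ (rep_one hm) h1
  have hiff : ∀ g, g ∈ Subgroup.closure {g | g ∈ ps} ↔ g ∈ t.toList.map (nodePerm ps) := by
    intro g
    refine ⟨fun hg => ?_, fun hg => ?_⟩
    · induction hg using Subgroup.closure_induction_left with
      | one => exact hone
      | mul_left x hx y _ hy => exact hmul x hx y hy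
      | inv_mul_cancel x hx y _ hy =>
        have hpow : ∀ i : ℕ, x ^ i * y ∈ t.toList.map (nodePerm ps) := by
          intro i
          induction i with
          | zero => simpa using hy
          | succ i ih => rw [pow_succ', mul_assoc]; exact hmul x hx _ ih
        have hinv : x⁻¹ = x ^ (orderOf x - 1) := by
          rw [inv_eq_iff_mul_eq_one, ← pow_succ', Nat.sub_add_cancel (orderOf_pos x),
            pow_orderOf_eq_one]
        rw [hinv]
        exact hpow _
    · obtain ⟨x, -, rfl⟩ := List.mem_map.1 hg
      exact permWord_mem (fun g hg => Subgroup.subset_closure hg) _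
  have hnd : (t.toList.map (nodePerm ps)).Nodup := by
    rw [List.nodup_map_iff_inj_on]
    · intro x hx y hy hxy
      have hc : x.1 = y.1 := by
        rw [← (hall x hx).1, ← (hall y hy).1, evalWord, evalWord]
        have hx' := hr x hx
        have hy' := hr y hy
        rw [hxy] at hx'
        rw [← (hall x hx).1] at hx'
        rw [← (hall y hy).1] at hy'
        have key : ∀ (w : List ℕ), encode m (fun i => app (evalWord m gs w) i) = evalWord m gs w := by
          intro w
          cases w with
          | nil =>
            refine encode_congr m fun i hi => ?_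
            rw [evalWord, List.foldr_nil, one, app_encode m _ i hi]
            exact Nat.mod_eq_of_lt (lt_of_lt_of_le hi hm)
          | cons j w =>
            refine encode_congr m fun i hi => ?_
            rw [evalWord, List.foldr_cons, comp, app_encode m _ i hi, app, app, Nat.mod_mod]
        refine ((key x.2.1).symm.trans ?_).trans (key y.2.1)
        refine encode_congr m fun i hi => ?_
        exact (hx' ⟨i, hi⟩).trans (hy' ⟨i, hi⟩).symm
      exact List.inj_on_of_nodup_map ((pairwise_of_sorted hs).imp Nat.ne_of_lt) hx hy hc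
    · exact List.Nodup.of_map _ ((pairwise_of_sorted hs).imp Nat.ne_of_lt)
  refine ⟨hr, hiff, hnd, fun g c hc hh => (hiff g).2 (hsound g c hc hh), ?_⟩
  classical
  have : (Subgroup.closure {g | g ∈ ps} : Set (Equiv.Perm (Fin m))) =
      ↑(t.toList.map (nodePerm ps)).toFinset := Set.ext fun g => by simp [hiff g]
  rw [← SetLike.coe_sort_coe, this, Nat.card_coe_set_eq, Set.ncard_coe_finset,
    List.toFinset_card_of_nodup hnd, List.length_map]

/-- A sum over the group. -/
theorem sum_closure (hm : m ≤ 16) {gs : List ℕ} {ps : List (Equiv.Perm (Fin m))} {t : PTree α}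
    (hrep : List.Forall₂ Rep gs ps) (h : checkGroup m gs t = true) {M : Type*} [AddCommMonoid M]
    [Fintype (Subgroup.closure {g | g ∈ ps})] (f : Equiv.Perm (Fin m) → M) :
    ∑ s : Subgroup.closure {g | g ∈ ps}, f s = (t.toList.map fun x => f (nodePerm ps x)).sum := by
  classical
  obtain ⟨-, hiff, hnd, -, -⟩ := checkGroup_spec hm hrep h
  rw [← Finset.sum_subtype (t.toList.map (nodePerm ps)).toFinset
    (fun g => by simp [hiff g]) f, List.sum_toFinset _ hnd, List.map_map]
  rfl

end CfsgLib.SolvCentAlt.Code
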