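import Mathlib
import Cfsg.Agent.Coprime.SchurZassenhaus

/-!
# Lifting coprime linear groups modulo a prime power

`beta g` is the trace of a lift of coprime order of a matrix `g` over `ZMod p` to
`ZMod (p ^ (N + 1))`; the dimension of the fixed space of a coprime group is the average of it.
-/

set_option autoImplicit false
set_option linter.style.haveILetI false

namespace CfsgLib.SolvCentAlt

open Matrix
open scoped Pointwise

variable (p N n : ℕ)

/-- `ZMod (p ^ (N+1)) → ZMod p`. -/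
noncomputable def redRing : ZMod (p ^ (N + 1)) →+* ZMod p :=
  ZMod.castHom (dvd_pow_self p (Nat.succ_ne_zero N)) (ZMod p)

theorem redRing_surjective : Function.Surjective (redRing p N) :=
  ZMod.ringHom_surjective _

/-- Reduction of invertible matrices. -/
noncomputable def red :
    GL (Fin n) (ZMod (p ^ (N + 1))) →* GL (Fin n) (ZMod p) :=
  Units.map ((redRing p N).mapMatrix.toMonoidHom)

variable {p N n}

theorem red_apply (a : GL (Fin n) (ZMod (p ^ (N + 1)))) :
    ((red p N n a : GL (Fin n) (ZMod p)) : Matrix (Fin n) (Fin n) (ZMod p)) =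
      (a : Matrix (Fin n) (Fin n) (ZMod (p ^ (N + 1)))).map (redRing p N) := rfl

theorem exists_p_mul {x : ZMod (p ^ (N + 1))} (h : redRing p N x = 0) :
    ∃ y, x = (p : ZMod (p ^ (N + 1))) * y := by
  obtain ⟨k, rfl⟩ : ∃ k : ℤ, (k : ZMod (p ^ (N + 1))) = x := ZMod.intCast_surjective x
  rw [map_intCast, ZMod.intCast_zmod_eq_zero_iff_dvd] at h
  obtain ⟨c, rfl⟩ := h
  exact ⟨c, by push_cast; ring⟩

theorem exists_p_smul {m : Type*} {A : Matrix m m (ZMod (p ^ (N + 1)))}
    (h : A.map (redRing p N) = 0) : ∃ Y : Matrix m m (ZMod (p ^ (N + 1))), A = p • Y := by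
  have h' : ∀ i j, ∃ y, A i j = (p : ZMod (p ^ (N + 1))) * y := fun i j =>
    exists_p_mul (congrFun (congrFun h i) j)
  choose Y hY using h'
  exact ⟨Matrix.of Y, Matrix.ext fun i j => by
    rw [Matrix.smul_apply, Matrix.of_apply, nsmul_eq_mul]; exact hY i j⟩

theorem isNilpotent_of_map_eq_zero {m : Type*} [Fintype m] [DecidableEq m]
    {A : Matrix m m (ZMod (p ^ (N + 1)))} (h : A.map (redRing p N) = 0) : IsNilpotent A := by
  obtain ⟨Y, rfl⟩ := exists_p_smul h
  exact ⟨N + 1, by rw [smul_pow, ← Nat.cast_smul_eq_nsmul (ZMod (p ^ (N + 1))),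
    ZMod.natCast_self, zero_smul]⟩

theorem isUnit_of_map_isUnit {m : Type*} [Fintype m] [DecidableEq m]
    {A : Matrix m m (ZMod (p ^ (N + 1)))} (h : IsUnit (A.map (redRing p N))) : IsUnit A := by
  rw [Matrix.isUnit_iff_isUnit_det] at h ⊢
  rw [← RingHom.mapMatrix_apply, ← RingHom.map_det] at h
  obtain ⟨u, hu⟩ := h
  obtain ⟨y, hy⟩ := redRing_surjective p N ↑u⁻¹
  have h1 : redRing p N (1 - A.det * y) = 0 := by
    rw [map_sub, map_one, map_mul, hy, ← hu, Units.mul_inv, sub_self]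
  obtain ⟨z, hz⟩ := exists_p_mul h1
  have hnil : IsNilpotent (1 - A.det * y) := by
    rw [hz]
    exact ⟨N + 1, by rw [mul_pow, ← Nat.cast_pow, ZMod.natCast_self, zero_mul]⟩
  have := hnil.isUnit_one_sub
  rw [sub_sub_cancel] at this
  exact isUnit_of_mul_isUnit_left this

theorem red_surjective : Function.Surjective (red p N n) := by
  intro g
  obtain ⟨A, hA⟩ : ∃ A : Matrix (Fin n) (Fin n) (ZMod (p ^ (N + 1))),
      A.map (redRing p N) = (g : Matrix (Fin n) (Fin n) (ZMod p)) := by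
    choose f hf using redRing_surjective p N
    exact ⟨Matrix.of fun i j => f ((g : Matrix (Fin n) (Fin n) (ZMod p)) i j),
      Matrix.ext fun i j => hf _⟩
  obtain ⟨u, hu⟩ := isUnit_of_map_isUnit (A := A) (by rw [hA]; exact g.isUnit)
  exact ⟨u, Units.ext (by rw [red_apply, hu, hA])⟩

theorem pow_prime_congr {R : Type*} [Ring R] (p : ℕ) (A y : R) (j : ℕ)
    (h : A = 1 + (p ^ (j + 1)) • y) : ∃ z : R, A ^ p = 1 + (p ^ (j + 2)) • z := by
  have hs : ∀ i, ∃ w : R, A ^ i = 1 + p • w := by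
    intro i
    induction i with
    | zero => exact ⟨0, by simp⟩
    | succ i ih =>
      obtain ⟨w, hw⟩ := ih
      refine ⟨w * A + p ^ j • y, ?_⟩
      rw [pow_succ, hw, add_mul, one_mul, smul_mul_assoc, smul_add, smul_smul, ← pow_succ']
      nth_rw 1 [h]
      abel
  choose w hw using hs
  have hsum : ∑ i ∈ Finset.range p, A ^ i = p • (1 + ∑ i ∈ Finset.range p, w i) := by
    simp only [hw, Finset.sum_add_distrib, Finset.sum_const, Finset.card_range, smul_add,
      Finset.smul_sum]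
  refine ⟨(1 + ∑ i ∈ Finset.range p, w i) * y, ?_⟩
  have hg := geom_sum_mul A p
  rw [hsum, show A - 1 = p ^ (j + 1) • y by rw [h, add_sub_cancel_left], smul_mul_smul_comm,
    ← pow_succ'] at hg
  rw [hg, add_sub_cancel]

theorem isPGroup_ker : IsPGroup p (red p N n).ker := by
  intro a
  refine ⟨N, Subtype.ext (Units.ext ?_)⟩
  have h0 : ((a.1 : Matrix (Fin n) (Fin n) (ZMod (p ^ (N + 1)))) - 1).map (redRing p N) = 0 := by
    have h := congrArg Units.val a.2
    rw [red_apply, Units.val_one] at h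
    rw [Matrix.map_sub _ (map_sub _), h, Matrix.map_one _ (map_zero _) (map_one _), sub_self]
  obtain ⟨Y, hY⟩ := exists_p_smul h0
  have key : ∀ j : ℕ, ∃ z, (a.1 : Matrix (Fin n) (Fin n) (ZMod (p ^ (N + 1)))) ^ p ^ j =
      1 + (p ^ (j + 1)) • z := by
    intro j
    induction j with
    | zero => exact ⟨Y, by rw [pow_zero, pow_one, pow_one, ← hY, add_sub_cancel]⟩
    | succ j ih =>
      obtain ⟨z, hz⟩ := ih
      obtain ⟨z', hz'⟩ := pow_prime_congr p _ z j hz
      exact ⟨z', (congrArg _ (pow_succ p j)).trans ((pow_mul _ _ _).trans hz')⟩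
  obtain ⟨z, hz⟩ := key N
  rw [SubgroupClass.coe_pow, Units.val_pow_eq_pow_val, hz,
    ← Nat.cast_smul_eq_nsmul (ZMod (p ^ (N + 1))), ZMod.natCast_self, zero_smul, add_zero]
  rfl

variable [Fact p.Prime]

instance : NeZero (p ^ (N + 1)) := ⟨pow_ne_zero _ (Fact.out : p.Prime).ne_zero⟩

/-- A lift of coprime order. -/
def IsLift (g : GL (Fin n) (ZMod p)) (a : GL (Fin n) (ZMod (p ^ (N + 1)))) : Prop :=
  red p N n a = g ∧ (orderOf a).Coprime p

theorem coprime_card_ker {k : ℕ} (h : k.Coprime p) :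
    (Nat.card (red p N n).ker).Coprime k := by
  obtain ⟨i, hi⟩ := (IsPGroup.iff_card).1 (isPGroup_ker (p := p) (N := N) (n := n))
  rw [hi]
  exact Nat.Coprime.pow_left i h.symm

theorem IsLift.orderOf_eq {g : GL (Fin n) (ZMod p)} {a : GL (Fin n) (ZMod (p ^ (N + 1)))}
    (ha : IsLift g a) : orderOf a = orderOf g := by
  refine Nat.dvd_antisymm ?_ (ha.1 ▸ orderOf_map_dvd _ a)
  rw [orderOf_dvd_iff_pow_eq_one]
  have hker : a ^ orderOf g ∈ (red p N n).ker := by
    rw [MonoidHom.mem_ker, map_pow, ha.1, pow_orderOf_eq_one]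
  have h1 : orderOf (a ^ orderOf g) ∣ Nat.card (red p N n).ker := Subgroup.orderOf_dvd_natCard _ hker
  exact orderOf_eq_one_iff.1 (Nat.eq_one_of_dvd_coprimes (coprime_card_ker ha.2) h1
    (orderOf_pow_dvd _))

theorem IsLift.conj {g : GL (Fin n) (ZMod p)} {a b : GL (Fin n) (ZMod (p ^ (N + 1)))}
    (ha : IsLift g a) (hb : IsLift g b) : ∃ k, k * a * k⁻¹ = b := by
  have hN : Group.IsSolvable (red p N n).ker := by
    haveI := (isPGroup_ker (p := p) (N := N) (n := n)).isNilpotent
    infer_instance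
  have hsup : ∀ {x y : GL (Fin n) (ZMod (p ^ (N + 1)))}, red p N n x = red p N n y →
      Subgroup.zpowers x ≤ (red p N n).ker ⊔ Subgroup.zpowers y := fun {x y} h =>
    Subgroup.zpowers_le.2 <| by
      have hk : x * y⁻¹ ∈ (red p N n).ker := by
        rw [MonoidHom.mem_ker, map_mul, map_inv, h, mul_inv_cancel]
      simpa [mul_assoc] using Subgroup.mul_mem_sup hk (Subgroup.mem_zpowers y)
  obtain ⟨k, hkN, hk⟩ := CfsgLib.Coprime.exists_conj_eq_of_sup_eq
    (N := (red p N n).ker) (H := Subgroup.zpowers a) (K := Subgroup.zpowers b)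
    Subgroup.le_normalizer_of_normal Subgroup.le_normalizer_of_normal
    (by rw [Nat.card_zpowers]; exact coprime_card_ker ha.2)
    (by rw [Nat.card_zpowers, Nat.card_zpowers, ha.orderOf_eq, hb.orderOf_eq])
    (le_antisymm (sup_le le_sup_left (hsup (ha.1.trans hb.1.symm)))
      (sup_le le_sup_left (hsup (hb.1.trans ha.1.symm)))) (Or.inl hN)
  refine ⟨k, ?_⟩
  have hmem : k * a * k⁻¹ ∈ Subgroup.zpowers b := by
    rw [← hk, Subgroup.mem_pointwise_smul_iff_inv_smul_mem]
    simp [MulAut.smul_def, mul_assoc]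
  obtain ⟨e, he⟩ := hmem
  have he' : b ^ e = k * a * k⁻¹ := he
  have hk1 : red p N n k = 1 := MonoidHom.mem_ker.1 hkN
  have h1 : red p N n (k * a * k⁻¹) = g := by simp [hk1, ha.1]
  rw [← he', map_zpow, hb.1] at h1
  rw [← he']
  conv_rhs => rw [← zpow_one b]
  exact zpow_eq_zpow_iff_modEq.2
    (hb.orderOf_eq ▸ zpow_eq_zpow_iff_modEq.1 (h1.trans (zpow_one g).symm))

/-- The lifted trace. -/
noncomputable def beta (g : GL (Fin n) (ZMod p)) : ZMod (p ^ (N + 1)) :=
  open scoped Classical in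
  if h : ∃ a, IsLift (N := N) g a then
    ((h.choose : GL (Fin n) (ZMod (p ^ (N + 1)))) : Matrix (Fin n) (Fin n) _).trace
  else 0

theorem beta_eq {g : GL (Fin n) (ZMod p)} {a : GL (Fin n) (ZMod (p ^ (N + 1)))}
    (ha : IsLift g a) :
    beta g = (a : Matrix (Fin n) (Fin n) (ZMod (p ^ (N + 1)))).trace := by
  have h : ∃ a, IsLift (N := N) g a := ⟨a, ha⟩
  rw [beta, dif_pos h]
  obtain ⟨k, hk⟩ := h.choose_spec.conj ha
  rw [← hk, Units.val_mul, Units.val_mul, Matrix.trace_units_conj]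

theorem beta_conj (g h : GL (Fin n) (ZMod p)) :
    (beta (h * g * h⁻¹) : ZMod (p ^ (N + 1))) = beta g := by
  obtain ⟨k, hk⟩ := red_surjective (p := p) (N := N) (n := n) h
  have hl : ∀ {x a}, IsLift (N := N) x a → IsLift (h * x * h⁻¹) (k * a * k⁻¹) := fun {x a} ha =>
    ⟨by simp [hk, ha.1], by
      rw [show k * a * k⁻¹ = MulAut.conj k a from rfl, MulEquiv.orderOf_eq]; exact ha.2⟩
  by_cases hg : ∃ a, IsLift (N := N) g a
  · obtain ⟨a, ha⟩ := hg
    rw [beta_eq (hl ha), beta_eq ha, Units.val_mul, Units.val_mul, Matrix.trace_units_conj]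
  · rw [beta, beta, dif_neg hg, dif_neg]
    rintro ⟨a, ha1, ha2⟩
    exact hg ⟨k⁻¹ * a * k, by simp [hk, ha1, mul_assoc], by
      rw [show k⁻¹ * a * k = MulAut.conj k⁻¹ a by simp, MulEquiv.orderOf_eq]; exact ha2⟩

theorem beta_one : (beta (1 : GL (Fin n) (ZMod p)) : ZMod (p ^ (N + 1))) = n := by
  rw [beta_eq (a := 1) ⟨map_one _, by simp⟩, Units.val_one, Matrix.trace_one, Fintype.card_fin]

/-- A homomorphism from a coprime group lifts. -/
theorem exists_lift_hom {S : Type*} [Group S] [Finite S] (ρ : S →* GL (Fin n) (ZMod p))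
    (hS : (Nat.card S).Coprime p) :
    ∃ σ : S →* GL (Fin n) (ZMod (p ^ (N + 1))), ∀ s, red p N n (σ s) = ρ s := by
  set E := ρ.range.comap (red p N n) with hE
  let π : E →* ρ.range := (red p N n).subgroupComap ρ.range
  have hπ : Function.Surjective π := MonoidHom.subgroupComap_surjective_of_surjective _ _ red_surjective
  have hker : (Nat.card π.ker).Coprime π.ker.index := by
    have h1 : π.ker.index = Nat.card ρ.range := by
      rw [Subgroup.index_ker, MonoidHom.range_eq_top_of_surjective _ hπ, Subgroup.card_top]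
    have h2 : IsPGroup p π.ker := by
      intro x
      have hx : (x.1 : GL (Fin n) (ZMod (p ^ (N + 1)))) ∈ (red p N n).ker :=
        congrArg Subtype.val x.2
      obtain ⟨k, hk⟩ := isPGroup_ker ⟨_, hx⟩
      exact ⟨k, Subtype.ext (Subtype.ext (congrArg Subtype.val hk :))⟩
    obtain ⟨i, hi⟩ := IsPGroup.iff_card.1 h2
    rw [h1, hi]
    exact Nat.Coprime.pow_left i (Nat.Coprime.coprime_dvd_left (Subgroup.card_range_dvd ρ) hS).symm
  obtain ⟨K, hK⟩ := Subgroup.exists_right_complement'_of_coprime hker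
  have hbij : Function.Bijective (π.comp K.subtype) := by
    constructor
    · rw [injective_iff_map_eq_one]
      intro x hx
      have : x.1 ∈ π.ker ⊓ K := ⟨hx, x.2⟩
      rw [hK.disjoint.eq_bot, Subgroup.mem_bot] at this
      exact Subtype.ext this
    · intro y
      obtain ⟨z, rfl⟩ := hπ y
      obtain ⟨a, ha, b, hb, rfl⟩ : ∃ a ∈ π.ker, ∃ b ∈ K, a * b = z := by
        obtain ⟨⟨a, b⟩, hab, -⟩ := hK.existsUnique z
        exact ⟨a, a.2, b, b.2, hab⟩
      exact ⟨⟨b, hb⟩, by simp [MonoidHom.mem_ker.1 ha]⟩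
  let e := MulEquiv.ofBijective _ hbij
  refine ⟨E.subtype.comp (K.subtype.comp (e.symm.toMonoidHom.comp ρ.rangeRestrict)), fun s => ?_⟩
  exact congrArg Subtype.val (e.apply_symm_apply (ρ.rangeRestrict s))

/-- The common fixed space. -/
def fixedSub {S : Type*} [Group S] (ρ : S →* GL (Fin n) (ZMod p)) :
    Submodule (ZMod p) (Fin n → ZMod p) :=
  ⨅ s, LinearMap.ker (Matrix.toLin' ((ρ s : Matrix (Fin n) (Fin n) (ZMod p))) - 1)

theorem mem_fixedSub {S : Type*} [Group S] {ρ : S →* GL (Fin n) (ZMod p)} {v : Fin n → ZMod p} :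
    v ∈ fixedSub ρ ↔ ∀ s, (ρ s : Matrix (Fin n) (Fin n) (ZMod p)) *ᵥ v = v := by
  simp [fixedSub, sub_eq_zero]

/-- The dimension of the fixed space is the average of `beta`. -/
theorem card_mul_finrank_fixedSub {S : Type*} [Group S] [Fintype S]
    (ρ : S →* GL (Fin n) (ZMod p)) (hS : (Nat.card S).Coprime p) :
    ((Nat.card S * Module.finrank (ZMod p) (fixedSub ρ) : ℕ) : ZMod (p ^ (N + 1))) =
      ∑ s, beta (ρ s) := by
  classical
  obtain ⟨σ, hσ⟩ := exists_lift_hom (N := N) ρ hS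
  have hlift : ∀ s, IsLift (ρ s) (σ s) := fun s => ⟨hσ s, Nat.Coprime.coprime_dvd_left
    ((orderOf_map_dvd σ s).trans (orderOf_dvd_natCard s)) hS⟩
  obtain ⟨c, hc⟩ : ∃ c : ZMod (p ^ (N + 1)), c * (Nat.card S : ℕ) = 1 :=
    ((ZMod.isUnit_iff_coprime _ _).2 (Nat.Coprime.pow_right _ hS)).exists_left_inv
  set T : Matrix (Fin n) (Fin n) (ZMod (p ^ (N + 1))) := ∑ s, (σ s : Matrix _ _ _) with hT
  set e := c • T with he
  have hmul : ∀ s, (σ s : Matrix _ _ _) * e = e := by
    intro s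
    rw [he, Matrix.mul_smul, hT, Finset.mul_sum]
    congr 1
    exact Fintype.sum_equiv (Equiv.mulLeft s) _ _ fun t => by simp
  have hee : e * e = e := by
    conv_lhs => arg 1; rw [he]
    rw [Matrix.smul_mul, hT, Finset.sum_mul, Finset.sum_congr rfl fun s _ => hmul s,
      Finset.sum_const, Finset.card_univ, ← Nat.card_eq_fintype_card,
      ← Nat.cast_smul_eq_nsmul (ZMod (p ^ (N + 1))), smul_smul, hc, one_smul]
  set U := fixedSub ρ
  set e₀ := e.map (redRing p N) with he₀
  have hfix : ∀ v ∈ U, e₀ *ᵥ v = v := by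
    intro v hv
    have hmap : e₀ = redRing p N c • ∑ s, ((ρ s : Matrix (Fin n) (Fin n) (ZMod p))) := by
      rw [he₀, he, hT, Matrix.map_smul' _ _ _ (map_mul _), ← RingHom.mapMatrix_apply, map_sum]
      simp only [RingHom.mapMatrix_apply, ← red_apply, hσ]
    rw [hmap, Matrix.smul_mulVec, Matrix.sum_mulVec,
      Finset.sum_congr rfl fun s _ => mem_fixedSub.1 hv s, Finset.sum_const, Finset.card_univ,
      ← Nat.card_eq_fintype_card, ← Nat.cast_smul_eq_nsmul (ZMod p), smul_smul,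
      ← map_natCast (redRing p N), ← map_mul, hc, map_one, one_smul]
  have hrange : ∀ v, e₀ *ᵥ v ∈ U := fun v => mem_fixedSub.2 fun s => by
    rw [Matrix.mulVec_mulVec, ← hσ s, red_apply, he₀, ← Matrix.map_mul, hmul]
  -- a factorisation of the idempotent
  set d := Module.finrank (ZMod p) U
  let b := Module.finBasis (ZMod p) U
  let A₀ : Matrix (Fin n) (Fin d) (ZMod p) :=
    LinearMap.toMatrix' (U.subtype ∘ₗ b.equivFun.symm.toLinearMap)
  let B₀ : Matrix (Fin d) (Fin n) (ZMod p) :=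
    LinearMap.toMatrix' (b.equivFun.toLinearMap ∘ₗ (Matrix.toLin' e₀).codRestrict U hrange)
  have hBA : B₀ * A₀ = 1 := by
    rw [← LinearMap.toMatrix'_comp, ← LinearMap.toMatrix'_id]
    congr 1
    apply LinearMap.ext
    intro w
    have hw : (Matrix.toLin' e₀).codRestrict U hrange (b.equivFun.symm w : U) = b.equivFun.symm w :=
      Subtype.ext (hfix _ (b.equivFun.symm w).2)
    simp only [LinearMap.coe_comp, Function.comp_apply, LinearEquiv.coe_coe, Submodule.coe_subtype,
      hw, LinearEquiv.apply_symm_apply, LinearMap.id_coe, id_eq]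
  have hAB : A₀ * B₀ = e₀ := by
    rw [← LinearMap.toMatrix'_comp]
    conv_rhs => rw [← LinearMap.toMatrix'_toLin' e₀]
    congr 1
    apply LinearMap.ext
    intro v
    simp only [LinearMap.coe_comp, Function.comp_apply, LinearEquiv.coe_coe,
      LinearEquiv.symm_apply_apply, Submodule.coe_subtype]
    rfl
  choose f hf using redRing_surjective p N
  let A₁ : Matrix (Fin n) (Fin d) (ZMod (p ^ (N + 1))) := A₀.map f
  let B₁ : Matrix (Fin d) (Fin n) (ZMod (p ^ (N + 1))) := B₀.map f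
  have hA₁ : A₁.map (redRing p N) = A₀ := Matrix.ext fun i j => hf _
  have hB₁ : B₁.map (redRing p N) = B₀ := Matrix.ext fun i j => hf _
  have hu : (B₁ * e * A₁).map (redRing p N) = 1 := by
    rw [Matrix.map_mul, Matrix.map_mul, hA₁, hB₁, ← he₀, ← hAB, ← Matrix.mul_assoc, hBA,
      Matrix.one_mul, hBA]
  obtain ⟨u, hu'⟩ := isUnit_of_map_isUnit (A := B₁ * e * A₁) (by rw [hu]; exact isUnit_one)
  let A := e * A₁
  let B : Matrix (Fin d) (Fin n) (ZMod (p ^ (N + 1))) :=
    (↑u⁻¹ : Matrix (Fin d) (Fin d) (ZMod (p ^ (N + 1)))) * (B₁ * e)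
  have hBA' : B * A = 1 := by
    simp only [B, A, Matrix.mul_assoc]
    rw [← Matrix.mul_assoc e, hee, ← Matrix.mul_assoc B₁, ← hu', Units.inv_mul]
  have hu0 : (↑u⁻¹ : Matrix (Fin d) (Fin d) (ZMod (p ^ (N + 1)))).map (redRing p N) = 1 := by
    have h := congrArg (fun M => M.map (redRing p N)) (Units.inv_mul u)
    simp only [Matrix.map_mul, hu', hu, Matrix.mul_one,
      Matrix.map_one _ (map_zero (redRing p N)) (map_one _)] at h
    exact h
  have hdiff : (e - A * B).map (redRing p N) = 0 := by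
    simp only [A, B]
    rw [Matrix.map_sub _ (map_sub _), Matrix.map_mul, Matrix.map_mul, Matrix.map_mul,
      Matrix.map_mul, hA₁, hB₁, hu0, ← he₀, Matrix.one_mul, ← hAB]
    simp only [Matrix.mul_assoc]
    rw [← Matrix.mul_assoc B₀ A₀, hBA, Matrix.one_mul, ← Matrix.mul_assoc B₀ A₀, hBA,
      Matrix.one_mul, sub_self]
  have h1 : e * (A * B) = A * B := by
    simp only [A, ← Matrix.mul_assoc, hee]
  have h2 : A * B * e = A * B := by
    simp only [B, Matrix.mul_assoc, hee]
  have h3 : (A * B) * (A * B) = A * B := by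
    rw [Matrix.mul_assoc, ← Matrix.mul_assoc B, hBA', Matrix.one_mul]
  have hidem : IsIdempotentElem (e - A * B) := by
    rw [IsIdempotentElem, sub_mul, mul_sub, mul_sub, hee, h1, h2, h3]
    abel
  have heq : e = A * B :=
    sub_eq_zero.1 (hidem.eq_zero_of_isNilpotent (isNilpotent_of_map_eq_zero hdiff))
  have htr : e.trace = (d : ZMod (p ^ (N + 1))) := by
    rw [heq, Matrix.trace_mul_comm, hBA', Matrix.trace_one, Fintype.card_fin]
  rw [Nat.cast_mul, ← htr, he, Matrix.trace_smul, smul_eq_mul, ← mul_assoc, mul_comm _ c, hc,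
    one_mul, hT, Matrix.trace_sum]
  exact Finset.sum_congr rfl fun s _ => (beta_eq (hlift s)).symm

end CfsgLib.SolvCentAlt
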