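import Cfsg.Agent.SolvCentAlt.Enum

/-!
# Certificates for modules of the alternating group of degree nine over two elements
-/

set_option autoImplicit false

namespace CfsgLib.SolvCentAlt.Two

open Code

abbrev A9 := alternatingGroup (Fin 9)

/-- A generator: an even product of transpositions. -/
abbrev Sw := List (Fin 9 × Fin 9)

/-- Even and with distinct points. -/
def even (a : Sw) : Bool := (a.length % 2 == 0) && a.all fun x => decide (x.1 ≠ x.2)

theorem mem_of_even {a : Sw} (h : even a = true) : swaps a ∈ alternatingGroup (Fin 9) := by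
  simp only [even, Bool.and_eq_true, beq_iff_eq, List.all_eq_true, decide_eq_true_eq] at h
  exact swaps_mem_alternatingGroup h.2 h.1

/-- The permutation as an element of the group. -/
def el (a : Sw) (h : even a = true) : A9 := ⟨swaps a, mem_of_even h⟩

variable {V : Type*} [AddCommGroup V] [Module (ZMod 2) V] {σ : Representation (ZMod 2) A9 V}

/-- No nonzero vector is fixed by the given permutations. -/
def Killed (σ : Representation (ZMod 2) A9 V) (gens : List Sw) : Prop :=
  ∀ v : V, (∀ g : A9, (g : Equiv.Perm (Fin 9)) ∈ gens.map swaps → σ g v = v) → v = 0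

theorem act_mul (g h : A9) (v : V) : σ (g * h) v = σ g (σ h v) := by rw [map_mul]; rfl

/-- A sum of an orbit that was translated: for each summand its index and, for each generator, the
image index with a witness; then the index of the translate with a witness. -/
abbrev Entry := ℕ × List (ℕ × ℕ) × ℕ × ℕ

/-- The killed group, the translation, the summands. -/
abbrev Term := ℕ × Sw × List Entry

/-- An index tree of coset representatives with their codes. -/
inductive STree where
  | leaf : STree
  | node : STree → ℕ → Sw → ℕ → STree → STree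

/-- Look up. -/
def STree.get : STree → ℕ → Sw × ℕ
  | .leaf, _ => ([], one 9)
  | .node l k a c r, i => if i < k then l.get i else if k < i then r.get i else (a, c)

/-- Every node is even and has the right code. -/
def STree.ok : STree → Bool
  | .leaf => true
  | .node l _ a c r => l.ok && r.ok && even a && (swapsCode a == c)

theorem STree.get_ok : ∀ {t : STree}, t.ok = true → ∀ i,
    even (t.get i).1 = true ∧ Rep (m := 9) (t.get i).2 (swaps (t.get i).1) := by
  intro t
  induction t with
  | leaf =>
    intro _ i
    exact ⟨rfl, rep_one (by norm_num)⟩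
  | node l k a c r ihl ihr =>
    intro h i
    simp only [STree.ok, Bool.and_eq_true, beq_iff_eq] at h
    rw [STree.get]
    split_ifs
    · exact ihl h.1.1.1 i
    · exact ihr h.1.1.2 i
    · exact ⟨h.1.2, h.2 ▸ rep_swaps (by norm_num) a⟩

/-- Check one term. -/
def checkTerm (Ks : List (List Sw)) (reps : STree) (T : PTree Unit) (x : Term) : Bool :=
  match x with
  | (k, g, es) =>
    let K := (Ks.getD k []).map swapsCode
    let gc := swapsCode g
    (decide (k < Ks.length)) && even g &&
    (es.all fun e => (e.2.1.length == K.length) &&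
      ((K.zip e.2.1).all fun y =>
        (comp 9 y.1 (reps.get e.1).2 == comp 9 (reps.get y.2.1).2 y.2.2) && T.has y.2.2) &&
      (comp 9 gc (reps.get e.1).2 == comp 9 (reps.get e.2.2.1).2 e.2.2.2) && T.has e.2.2.2) &&
    (List.range K.length).all fun j =>
      (es.map fun e => (e.2.1.getD j (0, 0)).1).isPerm (es.map fun e => e.1)

/-- Add the translates to a bit set. -/
def parity (l : List Term) : ℕ :=
  (l.flatMap fun x => x.2.2.map fun e => e.2.2.1).foldr (fun i a => a ^^^ 2 ^ i) 0

/-- Check a stage. -/
def checkStage (Ks : List (List Sw)) (Tg : List Sw) (reps : STree) (T : PTree Unit)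
    (l : List Term) (N : ℕ) : Bool :=
  checkGroup 9 (Tg.map swapsCode) T && Tg.all even && reps.ok &&
    (reps.get 0).1.isEmpty && l.all (checkTerm Ks reps T) &&
    (l.all fun x => x.2.2.all fun e => decide (e.2.2.1 < N)) && (parity l == 1)

theorem eq_zero_of_add_self {v : V} : v + v = 0 := by
  rw [← two_smul (ZMod 2) v, show (2 : ZMod 2) = 0 from rfl, zero_smul]

/-- The vector of a bit set. -/
def bitVec (f : ℕ → V) (N a : ℕ) : V :=
  ∑ i ∈ Finset.range N, if a.testBit i then f i else 0

theorem bitVec_xor (f : ℕ → V) {N i : ℕ} (hi : i < N) (a : ℕ) :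
    bitVec f N (a ^^^ 2 ^ i) = bitVec f N a + f i := by
  have : ∀ j, (if (a ^^^ 2 ^ i).testBit j then f j else 0) =
      (if a.testBit j then f j else 0) + (if j = i then f i else 0) := by
    intro j
    rw [Nat.testBit_xor, Nat.testBit_two_pow]
    by_cases hj : j = i
    · subst hj
      cases a.testBit j <;> simp [eq_zero_of_add_self]
    · simp [hj, Ne.symm hj]
  rw [bitVec, Finset.sum_congr rfl fun j _ => this j, Finset.sum_add_distrib, Finset.sum_ite_eq',
    if_pos (Finset.mem_range.2 hi)]
  rfl

theorem bitVec_foldr (f : ℕ → V) {N : ℕ} :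
    ∀ l : List ℕ, (∀ i ∈ l, i < N) →
      bitVec f N (l.foldr (fun i a => a ^^^ 2 ^ i) 0) = (l.map f).sum := by
  intro l
  induction l with
  | nil => intro _; simp [bitVec]
  | cons i l ih =>
    intro h
    rw [List.foldr_cons, bitVec_xor f (h i List.mem_cons_self),
      ih fun j hj => h j (List.mem_cons_of_mem _ hj), List.map_cons, List.sum_cons, add_comm]

theorem forall₂_codes (l : List Sw) : List.Forall₂ Rep (l.map swapsCode) (l.map (swaps (m := 9))) := by
  induction l with
  | nil => exact List.Forall₂.nil
  | cons a l ih => exact List.Forall₂.cons (rep_swaps (by norm_num) a) ih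

theorem killed_of_check {Ks : List (List Sw)} (hK : ∀ gens ∈ Ks, Killed σ gens) {Tg : List Sw}
    {reps : STree} {T : PTree Unit} {l : List Term} {N : ℕ}
    (h : checkStage Ks Tg reps T l N = true) : Killed σ Tg := by
  classical
  intro v hv
  simp only [checkStage, Bool.and_eq_true, List.all_eq_true, beq_iff_eq, decide_eq_true_eq] at h
  obtain ⟨⟨⟨⟨⟨⟨hT, hTe⟩, hR⟩, h0⟩, hterms⟩, hN⟩, hpar⟩ := h
  have hspec := checkGroup_spec (m := 9) (by norm_num) (forall₂_codes Tg) hT
  have hfix : ∀ (g : A9) (c : ℕ), Rep c (g : Equiv.Perm (Fin 9)) → T.has c = true → σ g v = v := by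
    intro g c hc hhas
    have hg := hspec.2.2.2.1 _ c hc hhas
    let S : Subgroup A9 :=
      { carrier := {g | σ g v = v}
        mul_mem' := fun {a b} ha hb => by
          show σ (a * b) v = v
          rw [act_mul, hb, ha]
        one_mem' := by show σ 1 v = v; rw [map_one]; rfl
        inv_mem' := fun {a} ha => by
          show σ a⁻¹ v = v
          conv_lhs => rw [← show σ a v = v from ha]
          rw [← act_mul, inv_mul_cancel, map_one]; rfl }
    have hle : Subgroup.closure {g | g ∈ Tg.map swaps} ≤ S.map (alternatingGroup (Fin 9)).subtype :=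
      (Subgroup.closure_le _).2 fun x hx => by
        obtain ⟨a, ha, rfl⟩ := List.mem_map.1 hx
        exact ⟨el a (hTe a ha), hv _ hx, rfl⟩
    obtain ⟨g', hg', he⟩ := hle hg
    rw [← show g' = g from Subtype.ext he]
    exact hg'
  have hrep := STree.get_ok hR
  let f : ℕ → V := fun i => σ (el (reps.get i).1 (hrep i).1) v
  have hmove : ∀ (a : A9) (ac i j t : ℕ), Rep ac (a : Equiv.Perm (Fin 9)) →
      comp 9 ac (reps.get i).2 = comp 9 (reps.get j).2 t → T.has t = true →
      σ a (f i) = f j := by
    intro a ac i j t hac hcomp hhas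
    obtain ⟨y, hy, hyt⟩ := PTree.exists_of_has hhas
    have htr : Rep t (nodePerm (Tg.map swaps) y) := hyt ▸ hspec.1 y hy
    have hmem : nodePerm (Tg.map swaps) y ∈ alternatingGroup (Fin 9) :=
      permWord_mem (fun g hg => by
        obtain ⟨b, hb, rfl⟩ := List.mem_map.1 hg
        exact mem_of_even (hTe b hb)) _
    have e : a * el (reps.get i).1 (hrep i).1 =
        el (reps.get j).1 (hrep j).1 * ⟨_, hmem⟩ := by
      apply Subtype.ext
      have e1 := hac.mul (by norm_num) (hrep i).2
      have e2 := (hrep j).2.mul (by norm_num) htr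
      rw [← hcomp] at e2
      exact e1.unique e2
    show σ a (σ _ v) = σ _ v
    rw [← act_mul, e, act_mul, hfix _ t htr hhas]
  have hzero : ∀ x ∈ l, ((x.2.2.map fun e => e.2.2.1).map f).sum = 0 := by
    rintro ⟨k, g, es⟩ hx
    have hc := hterms _ hx
    simp only [checkTerm, Bool.and_eq_true, List.all_eq_true, beq_iff_eq, decide_eq_true_eq,
      List.mem_range] at hc
    obtain ⟨⟨⟨hk, hg⟩, hes⟩, hperm⟩ := hc
    set K := Ks.getD k [] with hKdef
    have hKmem : K ∈ Ks := by
      rw [hKdef, List.getD_eq_getElem _ _ hk]; exact List.getElem_mem hk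
    have hsum : (es.map fun e => f e.1).sum = 0 := by
      refine hK K hKmem _ fun q hq => ?_
      obtain ⟨a, ha, hqa⟩ := List.mem_map.1 hq
      obtain ⟨j, hj, hja⟩ := List.getElem_of_mem ha
      have hqe : ∀ e ∈ es, σ q (f e.1) = f (e.2.1.getD j (0, 0)).1 := by
        intro e he
        obtain ⟨⟨⟨hlen, hzip⟩, -⟩, -⟩ := hes e he
        rw [List.length_map] at hlen
        have hmem : ((swapsCode a), e.2.1.getD j (0, 0)) ∈ (K.map swapsCode).zip e.2.1 := by
          rw [List.getD_eq_getElem _ _ (hlen ▸ hj)]
          refine List.mem_iff_getElem.2 ⟨j, by simpa [hlen] using hj, ?_⟩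
          simp [hja]
        obtain ⟨hcomp, hhas⟩ := hzip _ hmem
        exact hmove q _ _ _ _ (by rw [← hqa]; exact rep_swaps (by norm_num) a) hcomp hhas
      rw [map_list_sum, List.map_map,
        List.map_congr_left (g := f ∘ fun e => (e.2.1.getD j (0, 0)).1) hqe, ← List.map_map]
      have := (List.isPerm_iff.1 (hperm j (by rw [List.length_map]; exact hj))).map f
      rw [this.sum_eq, List.map_map]
      rfl
    have hge : ∀ e ∈ es, σ (el g hg) (f e.1) = f e.2.2.1 := by
      intro e he
      obtain ⟨⟨-, hcomp⟩, hhas⟩ := hes e he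
      exact hmove (el g hg) _ _ _ _ (rep_swaps (by norm_num) g) hcomp hhas
    have := congrArg (σ (el g hg)) hsum
    rw [map_list_sum, List.map_map, map_zero,
      List.map_congr_left (g := fun e => f e.2.2.1) hge] at this
    rw [List.map_map]
    exact this
  have hall : ((l.flatMap fun x => x.2.2.map fun e => e.2.2.1).map f).sum = 0 := by
    clear hterms hpar hN
    induction l with
    | nil => rfl
    | cons x l ih =>
      rw [List.flatMap_cons, List.map_append, List.sum_append, hzero x List.mem_cons_self,
        ih fun y hy => hzero y (List.mem_cons_of_mem _ hy), add_zero]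
  rw [← bitVec_foldr f (N := N) _ (fun i hi => by
    obtain ⟨x, hx, hix⟩ := List.mem_flatMap.1 hi
    obtain ⟨e, he, rfl⟩ := List.mem_map.1 hix
    exact hN x hx e he), ← parity, hpar] at hall
  have hb : bitVec f N 1 = f 0 := by
    have hN0 : 0 < N := by
      rcases Nat.eq_zero_or_pos N with h' | h'
      · exfalso
        have : (l.flatMap fun x => x.2.2.map fun e => e.2.2.1) = [] := by
          rw [List.eq_nil_iff_forall_not_mem]
          intro i hi
          obtain ⟨x, hx, hix⟩ := List.mem_flatMap.1 hi
          obtain ⟨e, he, rfl⟩ := List.mem_map.1 hix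
          exact absurd (hN x hx e he) (by omega)
        rw [parity, this] at hpar
        simp at hpar
      · exact h'
    rw [bitVec, Finset.sum_eq_single 0]
    · simp
    · intro j _ hj
      rw [show (1 : ℕ) = 2 ^ 0 from rfl, Nat.testBit_two_pow]
      simp [Ne.symm hj]
    · exact fun h => absurd (Finset.mem_range.2 hN0) h
  rw [hb] at hall
  have h1 : el (reps.get 0).1 (hrep 0).1 = 1 := by
    apply Subtype.ext
    show swaps (reps.get 0).1 = 1
    rw [List.isEmpty_iff.1 h0]; rfl
  simpa [f, h1] using hall

end CfsgLib.SolvCentAlt.Two
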