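import Cfsg.Agent.SolvCentAlt.TwoBase

/-!
# Generators used in the certificates over two elements
-/

set_option autoImplicit false

namespace CfsgLib.SolvCentAlt.Two

/-- Pairs generating perfect groups, with the order of the product. -/
def basePairs : List (Sw × Sw × ℕ) :=
  [([(1, 2), (3, 4)], [(0, 1), (1, 3)], 5),
    ([(2, 4), (3, 5)], [(0, 1), (1, 2), (3, 5), (5, 4)], 5),
    ([(0, 1), (2, 3), (4, 6), (5, 7)], [(1, 2), (2, 5), (4, 6), (6, 7)], 7),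
    ([(0, 1), (2, 3), (4, 6), (5, 7)], [(1, 2), (2, 4), (5, 7), (7, 6)], 7),
    ([(2, 4), (5, 6)], [(0, 1), (1, 2), (3, 4), (4, 6)], 7),
    ([(2, 4), (5, 6)], [(0, 1), (1, 2), (3, 6), (6, 4)], 7),
    ([(1, 2), (3, 4), (5, 8), (6, 7)], [(0, 1), (1, 4), (2, 5), (5, 8), (3, 7), (7, 6)], 7),
    ([(1, 2), (3, 5), (4, 6), (7, 8)], [(0, 1), (1, 3), (2, 8), (8, 7), (4, 5), (5, 6)], 7)]

def gensP13 : List Sw :=
  [[(0, 5), (1, 6), (6, 2), (2, 7), (7, 3), (3, 4)], [(0, 6), (6, 1), (1, 4), (4, 3), (3, 7), (2, 5)]]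

def gensP2 : List Sw :=
  [[(0, 4), (4, 7), (7, 2), (1, 5), (5, 6), (6, 3)], [(0, 4), (4, 6), (6, 1), (1, 5), (5, 7), (2, 3)]]

def gensPa : List Sw :=
  [[(0, 6), (6, 1), (1, 5), (2, 4), (4, 3), (3, 7)], [(0, 7), (7, 3), (3, 6), (6, 1), (1, 5), (2, 4)]]

def gensPb : List Sw :=
  [[(0, 6), (6, 1), (1, 4), (4, 3), (3, 5), (2, 7)], [(0, 1), (4, 6), (6, 5), (5, 7)]]

def gensX : List Sw :=
  [[(0, 2), (1, 3), (4, 5), (6, 7)], [(0, 1), (6, 7)], [(0, 4), (1, 5), (2, 6), (3, 7)]]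

end CfsgLib.SolvCentAlt.Two

namespace CfsgLib.SolvCentAlt.Two

/-- The killed sets available, in the order of the certificates. -/
def killedSets : List (List Sw) :=
  (basePairs.map fun x => [x.1, x.2.1]) ++ [gensP13, gensP2, gensPa, gensPb]

end CfsgLib.SolvCentAlt.Two
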